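import Cfsg.Agent.Lib.G2Orders.Bounds

/-!
The possible eigenvalue triples of a diagonal element stable under the Frobenius map.
-/

set_option autoImplicit false
set_option linter.unusedSectionVars false
set_option linter.unusedSimpArgs false

namespace Cfsg.Agent.G2Orders

variable {K : Type*} [Field K]

/-- The eigenvalues of the diagonal element, with multiplicity. -/
def evs8 (a b c : K) : Multiset K := (Finset.univ : Finset (Fin 8)).val.map (dv a b c)

/-- The eigenvalues are stable under the power map. -/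
def Stab (q : ℕ) (a b c : K) : Prop := (evs8 a b c).map (· ^ q) = evs8 a b c

/-- All three parameters have order dividing a number. -/
def Ord3 (N : ℕ) (a b c : K) : Prop := a ^ N = 1 ∧ b ^ N = 1 ∧ c ^ N = 1

theorem evs8_rot (a b c : K) : evs8 b c a = evs8 a b c := by
  let σ : Fin 8 ≃ Fin 8 := ⟨![0, 2, 3, 1, 5, 6, 4, 7], ![0, 3, 1, 2, 6, 4, 5, 7],
    fun i => by fin_cases i <;> rfl, fun i => by fin_cases i <;> rfl⟩
  have h : dv b c a = dv a b c ∘ σ := by funext i; fin_cases i <;> rfl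
  rw [evs8, evs8, h, ← Multiset.map_map, Multiset.map_univ_val_equiv]

theorem evs8_swap (a b c : K) : evs8 b a c = evs8 a b c := by
  let σ : Fin 8 ≃ Fin 8 := ⟨![0, 2, 1, 3, 5, 4, 6, 7], ![0, 2, 1, 3, 5, 4, 6, 7],
    fun i => by fin_cases i <;> rfl, fun i => by fin_cases i <;> rfl⟩
  have h : dv b a c = dv a b c ∘ σ := by funext i; fin_cases i <;> rfl
  rw [evs8, evs8, h, ← Multiset.map_map, Multiset.map_univ_val_equiv]

theorem Stab.rot {q : ℕ} {a b c : K} (h : Stab q a b c) : Stab q b c a := by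
  rw [Stab, evs8_rot]; exact h

theorem Stab.swap {q : ℕ} {a b c : K} (h : Stab q a b c) : Stab q b a c := by
  rw [Stab, evs8_swap]; exact h

theorem Ord3.rot' {N : ℕ} {a b c : K} (h : Ord3 N b c a) : Ord3 N a b c := ⟨h.2.2, h.1, h.2.1⟩

theorem Stab.mem {q : ℕ} {a b c : K} (h : Stab q a b c) (i : Fin 8) :
    ∃ j, dv a b c j = dv a b c i ^ q := by
  have hm : dv a b c i ^ q ∈ evs8 a b c := by
    rw [← h, evs8, Multiset.map_map]
    exact Multiset.mem_map.2 ⟨i, Finset.mem_univ_val i, rfl⟩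
  obtain ⟨j, -, hj⟩ := Multiset.mem_map.1 hm
  exact ⟨j, hj⟩

theorem Stab.count [DecidableEq K] {q : ℕ} {a b c : K} (hinj : Function.Injective fun x : K => x ^ q)
    (h : Stab q a b c) (v : K) :
    (Finset.univ.filter fun i => v ^ q = dv a b c i).card =
      (Finset.univ.filter fun i => v = dv a b c i).card := by
  have e : ∀ w : K, (Finset.univ.filter fun i => w = dv a b c i).card = (evs8 a b c).count w := by
    intro w
    rw [evs8, Multiset.count_map]
    rfl
  rw [e, e]
  conv_lhs => rw [← h]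
  rw [Multiset.count_map_eq_count' _ _ hinj]

theorem pow_of_eq {q : ℕ} (hq : 1 ≤ q) {x : K} (hx : x ≠ 0) :
    (x ^ q = x → x ^ (q - 1) = 1) ∧ (x ^ q = x⁻¹ → x ^ (q + 1) = 1) := by
  constructor
  · intro h
    obtain ⟨k, rfl⟩ : ∃ k, q = k + 1 := ⟨q - 1, by omega⟩
    rw [pow_succ] at h
    rw [Nat.add_sub_cancel]
    exact mul_right_cancel₀ hx (h.trans (one_mul x).symm)
  · intro h
    rw [pow_succ, h, inv_mul_cancel₀ hx]

theorem small_order {q k : ℕ} (hq : 1 ≤ q) {a : K} (hak : a ^ k = 1)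
    (hr : q % k = 1 ∨ (q + 1) % k = 0) : a ^ (q - 1) = 1 ∨ a ^ (q + 1) = 1 := by
  rcases hr with h | h
  · left
    obtain ⟨t, ht⟩ : k ∣ q - 1 := by
      have := Nat.div_add_mod q k
      exact ⟨q / k, by omega⟩
    rw [ht, pow_mul, hak, one_pow]
  · right
    obtain ⟨t, ht⟩ := Nat.dvd_of_mod_eq_zero h
    rw [ht, pow_mul, hak, one_pow]

section Arith

variable {q : ℕ} (hq : 1 ≤ q) (hinj : Function.Injective fun x : K => x ^ q)
include hq hinj

theorem ord3_of_one {b c : K} (hbc : (1 : K) * b * c = 1) (h : Stab q 1 b c) :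
    Ord3 (q - 1) 1 b c ∨ Ord3 (q + 1) 1 b c := by
  have hb : b ≠ 0 := by rintro rfl; simp at hbc
  rw [one_mul] at hbc
  have hc : c = b⁻¹ := eq_inv_of_mul_eq_one_right hbc
  have hone : b ^ q = 1 → b = 1 := fun e => hinj (show b ^ q = 1 ^ q by rw [e, one_pow])
  have hcase : b ^ q = b ∨ b ^ q = b⁻¹ := by
    obtain ⟨j, hj⟩ := h.mem 2
    fin_cases j <;> simp [dv, hc] at hj <;>
      first
        | (left; exact hj.symm)
        | (right; exact hj.symm)
        | (left; rw [hone hj.symm, one_pow])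
  rcases hcase with e | e
  · left
    have := (pow_of_eq hq hb).1 e
    exact ⟨one_pow _, this, by rw [hc, inv_pow, this, inv_one]⟩
  · right
    have := (pow_of_eq hq hb).2 e
    exact ⟨one_pow _, this, by rw [hc, inv_pow, this, inv_one]⟩

theorem ord3_of_eq {a c : K} (hac : a * a * c = 1) (h : Stab q a a c) :
    Ord3 (q - 1) a a c ∨ Ord3 (q + 1) a a c := by
  classical
  have ha : a ≠ 0 := by rintro rfl; simp at hac
  have hc : c = (a * a)⁻¹ := eq_inv_of_mul_eq_one_right hac
  suffices hN : a ^ (q - 1) = 1 ∨ a ^ (q + 1) = 1 by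
    rcases hN with e | e
    · exact Or.inl ⟨e, e, by rw [hc, inv_pow, mul_pow, e, mul_one, inv_one]⟩
    · exact Or.inr ⟨e, e, by rw [hc, inv_pow, mul_pow, e, mul_one, inv_one]⟩
  by_cases h1 : a = 1
  · left; rw [h1, one_pow]
  have hinj1 : ∀ {x : K}, x ^ q = 1 → x = 1 := fun {x} e =>
    hinj (show x ^ q = 1 ^ q by rw [e, one_pow])
  by_cases h3 : a ^ 3 = 1
  · refine small_order hq h3 ?_
    have : q % 3 ≠ 0 := fun e => h1 (hinj1 (by
      obtain ⟨t, rfl⟩ := Nat.dvd_of_mod_eq_zero e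
      rw [pow_mul, h3, one_pow]))
    omega
  by_cases h4 : a ^ 4 = 1
  · refine small_order hq h4 ?_
    have : q % 2 ≠ 0 := fun e => by
      obtain ⟨t, rfl⟩ := Nat.dvd_of_mod_eq_zero e
      have h2 : a ^ 2 = 1 := hinj1 (by rw [← pow_mul, show 2 * (2 * t) = 4 * t by ring, pow_mul, h4, one_pow])
      exact h1 (hinj1 (by rw [pow_mul, h2, one_pow]))
    omega
  have hcases : a ^ q = a ∨ a ^ q = a⁻¹ ∨ a ^ q = a * a ∨ a ^ q = (a * a)⁻¹ := by
    obtain ⟨j, hj⟩ := h.mem 1
    fin_cases j <;> simp [dv, hc] at hj <;>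
      first
        | exact absurd (hinj1 hj.symm) h1
        | (left; exact hj.symm)
        | (right; left; exact hj.symm)
        | (right; right; left; exact hj.symm)
        | (right; right; right; rw [← hj, mul_inv])
  have h2 : a * a ≠ 1 := fun e => h4 (by rw [show a ^ 4 = (a * a) * (a * a) by ring, e, mul_one])
  have hcount : ∀ v, (v = a * a ∨ v = (a * a)⁻¹) → a ^ q = v → False := by
    intro v hv e
    have hlt : (Finset.univ.filter fun i => v = dv a a c i).card ≤ 1 := by
      rw [Finset.card_le_one]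
      intro i hi j hj
      rw [Finset.mem_filter] at hi hj
      have n1 : a * a ≠ a := fun e => h1 (mul_right_cancel₀ ha (e.trans (one_mul a).symm))
      have n2 : a * a ≠ a⁻¹ := fun e => h3 (by
        rw [show a ^ 3 = a * a * a by ring, e, inv_mul_cancel₀ ha])
      have n3 : a * a ≠ (a * a)⁻¹ := fun e => h4 (by
        rw [show a ^ 4 = (a * a) * (a * a) by ring]
        nth_rw 1 [e]
        rw [inv_mul_cancel₀ (mul_ne_zero ha ha)])
      have m1 : (a * a)⁻¹ ≠ a := fun e => n2 (by rw [← inv_inv (a * a), e])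
      have m2 : (a * a)⁻¹ ≠ a⁻¹ := fun e => n1 (inv_injective e)
      have m3 : (a * a)⁻¹ ≠ 1 := fun e => h2 (inv_eq_one.1 e)
      rw [hc] at hi hj
      rcases hv with rfl | rfl <;> fin_cases i <;> fin_cases j <;>
        simp [dv, h2, n1, n2, n3, n3.symm, m1, m2, m3, -mul_inv_rev] at hi hj ⊢
    have hge : 2 ≤ (Finset.univ.filter fun i => a = dv a a c i).card :=
      (le_of_eq (by rfl : 2 = ({1, 2} : Finset (Fin 8)).card)).trans
        (Finset.card_le_card (by
          intro i hi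
          simp only [Finset.mem_insert, Finset.mem_singleton] at hi
          rcases hi with rfl | rfl <;> exact Finset.mem_filter.2 ⟨Finset.mem_univ _, rfl⟩))
    have := h.count hinj a
    rw [e] at this
    omega
  rcases hcases with e | e | e | e
  · exact Or.inl ((pow_of_eq hq ha).1 e)
  · exact Or.inr ((pow_of_eq hq ha).2 e)
  · exact (hcount _ (Or.inl rfl) e).elim
  · exact (hcount _ (Or.inr rfl) e).elim

/-- A coincidence among the parameters. -/
theorem ord3_of_special {a b c : K} (habc : a * b * c = 1) (h : Stab q a b c)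
    (hsp : a = 1 ∨ b = 1 ∨ c = 1 ∨ a = b ∨ b = c ∨ c = a) :
    Ord3 (q - 1) a b c ∨ Ord3 (q + 1) a b c := by
  have habc' : b * c * a = 1 := by rw [← habc]; ring
  have habc'' : c * a * b = 1 := by rw [← habc]; ring
  rcases hsp with e | e | e | e | e | e <;> subst e
  · exact ord3_of_one hq hinj habc h
  · exact (ord3_of_one hq hinj habc' h.rot).imp Ord3.rot' Ord3.rot'
  · exact (ord3_of_one hq hinj habc'' h.rot.rot).imp (fun x => x.rot'.rot') (fun x => x.rot'.rot')
  · exact ord3_of_eq hq hinj habc h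
  · exact (ord3_of_eq hq hinj habc' h.rot).imp Ord3.rot' Ord3.rot'
  · exact (ord3_of_eq hq hinj habc'' h.rot.rot).imp (fun x => x.rot'.rot') (fun x => x.rot'.rot')

/-- The three parameters are in general position. -/
theorem ord3_of_general {a b c : K} (habc : a * b * c = 1) (h : Stab q a b c)
    (h1 : a ≠ 1) (h2 : b ≠ 1) (h3 : c ≠ 1) (h12 : a ≠ b) (h23 : b ≠ c) (h31 : c ≠ a) :
    Ord3 (q ^ 2 - 1) a b c ∨ Ord3 (q ^ 2 + q + 1) a b c ∨ Ord3 (q ^ 2 - q + 1) a b c := by
  have ha : a ≠ 0 := by rintro rfl; simp at habc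
  have hb : b ≠ 0 := by rintro rfl; simp at habc
  have hc : c ≠ 0 := by rintro rfl; simp at habc
  have hinj1 : ∀ {x : K}, x ^ q = 1 → x = 1 := fun {x} e =>
    hinj (show x ^ q = 1 ^ q by rw [e, one_pow])
  have hqq : 1 ≤ q ^ 2 := Nat.one_le_pow _ _ hq
  have hfix2 : ∀ x : K, x ≠ 0 → (x ^ q) ^ q = x → x ^ (q ^ 2 - 1) = 1 := by
    intro x hx e
    rw [← pow_mul, ← pow_two] at e
    exact (pow_of_eq hqq hx).1 e
  -- each image is one of the six
  have himg : ∀ x : K, x ≠ 1 → (∃ i, dv a b c i = x) → ∃ y, (y = a ∨ y = b ∨ y = c) ∧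
      (x ^ q = y ∨ x ^ q = y⁻¹) := by
    rintro x hx ⟨i, rfl⟩
    obtain ⟨j, hj⟩ := h.mem i
    fin_cases j <;> simp [dv] at hj ⊢ <;>
      first
        | exact absurd (hinj1 hj.symm) hx
        | (simp [← hj])
  obtain ⟨a', ha', hia⟩ := himg a h1 ⟨1, rfl⟩
  obtain ⟨b', hb', hib⟩ := himg b h2 ⟨2, rfl⟩
  obtain ⟨c', hc', hic⟩ := himg c h3 ⟨3, rfl⟩
  -- the three images lie in different pairs
  have hne : ∀ x y z u : K, x * y * z = 1 → x ≠ y → z ≠ 1 →
      (x ^ q = u ∨ x ^ q = u⁻¹) → (y ^ q = u ∨ y ^ q = u⁻¹) → False := by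
    intro x y z u hxyz hxy hz hx hy
    have hinv : x ^ q = u ∧ y ^ q = u⁻¹ ∨ x ^ q = u⁻¹ ∧ y ^ q = u ∨ x ^ q = y ^ q := by
      rcases hx with e | e <;> rcases hy with e' | e' <;> simp [e, e']
    have key : x ^ q * y ^ q = 1 → False := fun e => by
      rw [← mul_pow] at e
      rw [hinj1 e, one_mul] at hxyz
      exact hz hxyz
    rcases hinv with ⟨e, e'⟩ | ⟨e, e'⟩ | e
    · refine key ?_
      rw [e, e', mul_inv_cancel₀]
      intro hu
      rw [hu] at e
      rw [eq_zero_of_pow_eq_zero e] at hxyz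
      simp at hxyz
    · refine key ?_
      rw [e, e', inv_mul_cancel₀]
      intro hu
      rw [hu] at e'
      rw [eq_zero_of_pow_eq_zero e'] at hxyz
      simp at hxyz
    · exact hxy (hinj e)
  have nab : a' ≠ b' := by rintro rfl; exact hne a b c a' habc h12 h3 hia hib
  have nbc : b' ≠ c' := by
    rintro rfl; exact hne b c a b' (by rw [← habc]; ring) h23 h1 hib hic
  have nca : c' ≠ a' := by
    rintro rfl; exact hne c a b c' (by rw [← habc]; ring) h31 h2 hic hia
  -- some parameter is an involution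
  by_cases hsq : a * a = 1 ∨ b * b = 1 ∨ c * c = 1
  · left
    have main : ∀ x y z : K, x * y * z = 1 → Stab q x y z → x ≠ 1 → y ≠ 1 → z ≠ 1 → x * x = 1 →
        y ≠ x → Ord3 (q ^ 2 - 1) x y z := by
      intro x y z hxyz hS hx1 hy1 hz1 hx hyx
      have hx0 : x ≠ 0 := left_ne_zero_of_mul_eq_one hx
      have hy0 : y ≠ 0 := by rintro rfl; simp at hxyz
      have hxm : x = -1 := (mul_self_eq_one_iff.1 hx).resolve_left hx1
      have hqodd : x ^ q = x := by
        rcases Nat.even_or_odd q with ⟨t, ht⟩ | ⟨t, ht⟩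
        · exact absurd (hinj1 (by rw [ht, ← two_mul, pow_mul, pow_two, hx, one_pow])) hx1
        · rw [ht, pow_succ, pow_mul, pow_two, hx, one_pow, one_mul]
      have hz : z = (x * y)⁻¹ := eq_inv_of_mul_eq_one_right hxyz
      have hxinv : x⁻¹ = x := inv_eq_of_mul_eq_one_right hx
      have hy : (y ^ q) ^ q = y := by
        obtain ⟨j, hj⟩ := hS.mem 2
        have hbad : ∀ w, y ^ q = w → (w = x ∨ w = 1) → False := by
          intro w e hw
          rcases hw with rfl | rfl
          · exact hyx (hinj (show y ^ q = w ^ q by rw [e, hqodd]))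
          · exact hy1 (hinj1 e)
        fin_cases j <;> simp [dv, hz, hxinv] at hj <;>
          first
            | exact (hbad _ hj.symm (Or.inl rfl)).elim
            | exact (hbad _ hj.symm (Or.inr rfl)).elim
            | (rw [← hj, ← hj])
            | (rw [← hj, inv_pow, ← hj, inv_inv])
            | (rw [← hj]; simp only [mul_pow, inv_pow, hqodd, ← hj, hxinv, mul_inv_rev, inv_inv]
               linear_combination y * hx)
      have e1 : x ^ (q ^ 2 - 1) = 1 := hfix2 x hx0 (by rw [hqodd, hqodd])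
      have e2 : y ^ (q ^ 2 - 1) = 1 := hfix2 y hy0 hy
      exact ⟨e1, e2, by rw [hz, inv_pow, mul_pow, e1, e2, mul_one, inv_one]⟩
    rcases hsq with e | e | e
    · exact main a b c habc h h1 h2 h3 e h12.symm
    · exact (main b c a (by rw [← habc]; ring) h.rot h2 h3 h1 e h23.symm).rot'
    · exact (main c a b (by rw [← habc]; ring) h.rot.rot h3 h1 h2 e h31.symm).rot'.rot'
  push Not at hsq
  obtain ⟨sa, sb, sc⟩ := hsq
  -- the signs agree
  have hsign : (a ^ q = a' ∧ b ^ q = b' ∧ c ^ q = c') ∨ (a ^ q = a'⁻¹ ∧ b ^ q = b'⁻¹ ∧ c ^ q = c'⁻¹) := by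
    have hp : a' * b' * c' = 1 := by
      rcases ha' with ka | ka | ka <;> replace ka := ka.symm <;> subst ka <;> rcases hb' with kb | kb | kb <;> replace kb := kb.symm <;> subst kb <;>
        rcases hc' with kc | kc | kc <;> replace kc := kc.symm <;> subst kc <;>
        first
          | exact absurd rfl nab
          | exact absurd rfl nbc
          | exact absurd rfl nca
          | linear_combination habc
    have hq1 : a ^ q * b ^ q * c ^ q = 1 := by rw [← mul_pow, ← mul_pow, habc, one_pow]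
    have hs : ∀ w, (w = a' ∨ w = b' ∨ w = c') → w * w ≠ 1 := by
      rintro w (rfl | rfl | rfl)
      · rcases ha' with ka | ka | ka <;> subst ka <;> assumption
      · rcases hb' with ka | ka | ka <;> subst ka <;> assumption
      · rcases hc' with ka | ka | ka <;> subst ka <;> assumption
    have na : a' ≠ 0 := by intro e; simp [e] at hp
    have nb : b' ≠ 0 := by intro e; simp [e] at hp
    have nc : c' ≠ 0 := by intro e; simp [e] at hp
    have key : ∀ x y z : K, x * y * z = 1 → x⁻¹ * y * z = 1 → x * x = 1 := by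
      intro x y z e e'
      have hx : x ≠ 0 := by rintro rfl; simp at e
      field_simp at e'
      linear_combination e - x * e' + (x - 1) * 0
    have key' : ∀ x y z : K, x * y * z = 1 → x * y⁻¹ * z⁻¹ = 1 → x * x = 1 := by
      intro x y z e e'
      have hy : y ≠ 0 := by rintro rfl; simp at e
      have hz : z ≠ 0 := by rintro rfl; simp at e
      field_simp at e'
      linear_combination e + x * e'
    rcases hia with e1 | e1 <;> rcases hib with e2 | e2 <;> rcases hic with e3 | e3 <;>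
      rw [e1, e2, e3] at hq1
    · exact Or.inl ⟨e1, e2, e3⟩
    · exact absurd (key c' a' b' (by linear_combination hp) (by linear_combination hq1)) (hs _ (Or.inr (Or.inr rfl)))
    · exact absurd (key b' a' c' (by linear_combination hp) (by linear_combination hq1)) (hs _ (Or.inr (Or.inl rfl)))
    · exact absurd (key' a' b' c' hp hq1) (hs _ (Or.inl rfl))
    · exact absurd (key a' b' c' hp hq1) (hs _ (Or.inl rfl))
    · exact absurd (key' b' a' c' (by linear_combination hp) (by linear_combination hq1)) (hs _ (Or.inr (Or.inl rfl)))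
    · exact absurd (key' c' a' b' (by linear_combination hp) (by linear_combination hq1)) (hs _ (Or.inr (Or.inr rfl)))
    · exact Or.inr ⟨e1, e2, e3⟩
  have hN : ∀ x y z : K, x * y * z = 1 →
      ((x ^ q = y ∧ y ^ q = z ∧ z ^ q = x) → x ^ (q ^ 2 + q + 1) = 1) ∧
      ((x ^ q = y⁻¹ ∧ y ^ q = z⁻¹ ∧ z ^ q = x⁻¹) → x ^ (q ^ 2 - q + 1) = 1) := by
    intro x y z hxyz
    constructor
    · rintro ⟨e1, e2, -⟩
      rw [pow_succ, pow_add, pow_two, pow_mul, e1, e2]
      linear_combination hxyz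
    · rintro ⟨e1, e2, -⟩
      have hy : y ≠ 0 := by rintro rfl; simp at hxyz
      have h2 : x ^ (q ^ 2) = z := by rw [pow_two, pow_mul, e1, inv_pow, e2, inv_inv]
      have hle : q ≤ q ^ 2 := Nat.le_self_pow (by norm_num) q
      have h3 : x ^ (q ^ 2 - q + 1) * x ^ q = z * x := by
        rw [← pow_add, show q ^ 2 - q + 1 + q = q ^ 2 + 1 by omega, pow_succ, h2]
      rw [e1] at h3
      have := congrArg (· * y) h3
      simp only [inv_mul_cancel_right₀ hy] at this
      linear_combination this + hxyz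
  have hqi : ∀ x y : K, x ^ q = y⁻¹ → y ^ q = x⁻¹ → (x ^ q) ^ q = x := fun x y e e' => by
    rw [e, inv_pow, e', inv_inv]
  have hqf : ∀ x : K, x ^ q = x⁻¹ → (x ^ q) ^ q = x := fun x e => hqi x x e e
  have habc' : b * c * a = 1 := by linear_combination habc
  have habc'' : c * a * b = 1 := by linear_combination habc
  rcases hsign with ⟨ea, eb, ec⟩ | ⟨ea, eb, ec⟩ <;>
    rcases ha' with ka | ka | ka <;> replace ka := ka.symm <;> subst ka <;> rcases hb' with kb | kb | kb <;> replace kb := kb.symm <;> subst kb <;>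
    rcases hc' with kc | kc | kc <;> replace kc := kc.symm <;> subst kc <;>
    first
      | exact absurd rfl nab
      | exact absurd rfl nbc
      | exact absurd rfl nca
      | exact Or.inl ⟨hfix2 _ ha (by rw [ea, eb]), hfix2 _ hb (by rw [eb, ea]), hfix2 _ hc (by rw [ec, ec])⟩
      | exact Or.inl ⟨hfix2 _ ha (by rw [ea, ea]), hfix2 _ hb (by rw [eb, ec]), hfix2 _ hc (by rw [ec, eb])⟩
      | exact Or.inl ⟨hfix2 _ ha (by rw [ea, ec]), hfix2 _ hb (by rw [eb, eb]), hfix2 _ hc (by rw [ec, ea])⟩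
      | exact Or.inl ⟨hfix2 _ ha (by rw [ea, ea]), hfix2 _ hb (by rw [eb, eb]), hfix2 _ hc (by rw [ec, ec])⟩
      | exact Or.inl ⟨hfix2 _ ha (hqf _ ea), hfix2 _ hb (hqf _ eb), hfix2 _ hc (hqf _ ec)⟩
      | exact Or.inl ⟨hfix2 _ ha (hqi _ _ ea eb), hfix2 _ hb (hqi _ _ eb ea), hfix2 _ hc (hqf _ ec)⟩
      | exact Or.inl ⟨hfix2 _ ha (hqf _ ea), hfix2 _ hb (hqi _ _ eb ec), hfix2 _ hc (hqi _ _ ec eb)⟩
      | exact Or.inl ⟨hfix2 _ ha (hqi _ _ ea ec), hfix2 _ hb (hqf _ eb), hfix2 _ hc (hqi _ _ ec ea)⟩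
      | exact Or.inr (Or.inl ⟨(hN a b c habc).1 ⟨ea, eb, ec⟩, (hN b c a habc').1 ⟨eb, ec, ea⟩,
          (hN c a b habc'').1 ⟨ec, ea, eb⟩⟩)
      | exact Or.inr (Or.inr ⟨(hN a b c habc).2 ⟨ea, eb, ec⟩, (hN b c a habc').2 ⟨eb, ec, ea⟩,
          (hN c a b habc'').2 ⟨ec, ea, eb⟩⟩)
      | exact Or.inr (Or.inl ⟨(hN a c b (by linear_combination habc)).1 ⟨ea, ec, eb⟩,
          (hN b a c (by linear_combination habc)).1 ⟨eb, ea, ec⟩,
          (hN c b a (by linear_combination habc)).1 ⟨ec, eb, ea⟩⟩)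
      | exact Or.inr (Or.inr ⟨(hN a c b (by linear_combination habc)).2 ⟨ea, ec, eb⟩,
          (hN b a c (by linear_combination habc)).2 ⟨eb, ea, ec⟩,
          (hN c b a (by linear_combination habc)).2 ⟨ec, eb, ea⟩⟩)

end Arith

end Cfsg.Agent.G2Orders
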