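import Cfsg.Agent.Lib.G2Orders.Semisimple

/-!
Orders of the semisimple and unipotent parts of an automorphism of the split octonions whose
semisimple part is diagonal.
-/

set_option autoImplicit false
set_option linter.unusedSectionVars false
set_option linter.unusedSimpArgs false

namespace Cfsg.Agent.G2Orders

open Matrix Cfsg.Lie Cfsg.Agent.Classical.NormalCover.GTwo

variable {K : Type*} [Field K]

section Nilpotent

variable {V : Type*} [AddCommGroup V] [Module K V] [FiniteDimensional K V]

theorem pow_eq_one_of_finrank_le {p : ℕ} [Fact p.Prime] [CharP K p] {U : Module.End K V} {j k : ℕ}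
    (hU : U ^ p ^ j = 1) (hn : Module.finrank K V ≤ p ^ k) : U ^ p ^ k = 1 := by
  by_cases hV : Subsingleton V
  · exact LinearMap.ext fun x => Subsingleton.elim _ _
  haveI : Nontrivial V := not_subsingleton_iff_nontrivial.1 hV
  haveI : CharP (Module.End K V) p := charP_of_injective_algebraMap' K p
  haveI : ExpChar (Module.End K V) p := ExpChar.prime Fact.out
  have hnil : IsNilpotent (U - 1) :=
    ⟨p ^ j, by rw [sub_pow_expChar_pow_of_commute _ _ (Commute.one_right U), hU, one_pow, sub_self]⟩
  have h0 : (U - 1) ^ Module.finrank K V = 0 := by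
    have h := LinearMap.aeval_self_charpoly (U - 1)
    rwa [IsNilpotent.charpoly_eq_X_pow_finrank hnil, map_pow, Polynomial.aeval_X] at h
  have h1 : (U - 1) ^ p ^ k = 0 := pow_eq_zero_of_le hn h0
  rw [sub_pow_expChar_pow_of_commute _ _ (Commute.one_right U), one_pow, sub_eq_zero] at h1
  exact h1

theorem pow_eq_one_of_isometry (B : LinearMap.BilinForm K V) (hsymm : ∀ x y, B x y = B y x)
    (hnd : ∀ x, (∀ y, B x y = 0) → x = 0) (h2 : (2 : K) ≠ 0) {U : Module.End K V}
    (hU : ∀ x y, B (U x) (U y) = B x y) (hnil : IsNilpotent (U - 1)) {r : ℕ} (hr : 1 ≤ r)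
    (hT : U ^ r - 1 = (U - 1) ^ r) (hn : Module.finrank K V = r + 1) : U ^ r = 1 := by
  set N := U - 1 with hN
  haveI : Nontrivial V := Module.nontrivial_of_finrank_pos (R := K) (by omega)
  have h0 : N ^ (r + 1) = 0 := by
    have h := LinearMap.aeval_self_charpoly N
    rwa [IsNilpotent.charpoly_eq_X_pow_finrank hnil, map_pow, Polynomial.aeval_X, hn] at h
  have hpow : ∀ i, r + 1 ≤ i → ∀ x, (N ^ i) x = 0 := fun i hi x => by
    rw [pow_eq_zero_of_le hi h0]; rfl
  have hUr : ∀ k : ℕ, ∀ x y, B ((U ^ k) x) ((U ^ k) y) = B x y := by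
    intro k
    induction k with
    | zero => simp
    | succ k ih =>
      intro x y
      rw [pow_succ', Module.End.mul_apply, Module.End.mul_apply, hU, ih]
  have hexp : ∀ x, (U ^ r) x = x + (N ^ r) x := fun x => by
    rw [← hT, LinearMap.sub_apply, Module.End.one_apply, add_sub_cancel]
  have key : ∀ x y, B ((N ^ r) x) y + B x ((N ^ r) y) + B ((N ^ r) x) ((N ^ r) y) = 0 := fun x y => by
    have h := hUr r x y
    rw [hexp, hexp, map_add, map_add, LinearMap.add_apply, LinearMap.add_apply] at h
    linear_combination h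
  have hcomp : ∀ i j x, (N ^ i) ((N ^ j) x) = (N ^ (i + j)) x := fun i j x => by
    rw [pow_add]; rfl
  have htwo : ∀ x y, B ((N ^ r) x) ((N ^ r) y) = 0 := fun x y => by
    have h := key x ((N ^ r) y)
    rw [hcomp, hpow (r + r) (by omega), map_zero, map_zero, add_zero, add_zero] at h
    exact h
  have anti : ∀ x y, B ((N ^ r) x) y = -B ((N ^ r) y) x := fun x y => by
    have h := key x y
    rw [htwo, add_zero, hsymm x] at h
    linear_combination h
  have hTz : N ^ r = 0 := by
    by_contra hne
    obtain ⟨v, hv⟩ : ∃ v, (N ^ r) v ≠ 0 := by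
      by_contra h
      push Not at h
      exact hne (LinearMap.ext h)
    let f : Fin (r + 1) → V := fun i => (N ^ (i : ℕ)) v
    have hli : LinearIndependent K f := by
      rw [Fintype.linearIndependent_iff]
      intro c hc
      have hall : ∀ n : ℕ, ∀ k : Fin (r + 1), (k : ℕ) < n → c k = 0 := by
        intro n
        induction n with
        | zero => intro k hk; exact absurd hk (Nat.not_lt_zero _)
        | succ n ih =>
          intro k hk
          rcases Nat.lt_or_ge (k : ℕ) n with h | h
          · exact ih k h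
          have h' := congrArg (N ^ (r - n)) hc
          rw [map_zero, map_sum, Finset.sum_eq_single k] at h'
          · rw [map_smul] at h'
            refine (smul_eq_zero.1 h').resolve_right ?_
            simp only [f, hcomp]
            rw [show r - n + (k : ℕ) = r by have := k.isLt; omega]
            exact hv
          · intro l _ hl
            rcases Nat.lt_or_ge (l : ℕ) n with h'' | h''
            · rw [ih l h'', zero_smul, map_zero]
            · have : (k : ℕ) < l := by
                have := Fin.val_ne_of_ne hl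
                omega
              simp only [map_smul, f, hcomp, hpow (r - n + l) (by have := k.isLt; omega), smul_zero]
          · simp
      exact fun i => hall _ i (Nat.lt_succ_self _)
    refine hv (hnd _ fun y => ?_)
    have hspan := hli.span_eq_top_of_card_eq_finrank (by simp [hn])
    have hy : y ∈ LinearMap.ker (B ((N ^ r) v)) := by
      refine (Submodule.span_le.2 ?_) (hspan ▸ Submodule.mem_top : y ∈ Submodule.span K (Set.range f))
      rintro _ ⟨i, rfl⟩
      show B ((N ^ r) v) ((N ^ (i : ℕ)) v) = 0
      rcases Nat.eq_zero_or_pos (i : ℕ) with h | h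
      · rw [h, pow_zero, Module.End.one_apply]
        have h' := anti v v
        exact (mul_eq_zero.1 (show (2 : K) * B ((N ^ r) v) v = 0 by linear_combination h')).resolve_left h2
      · rw [anti, hcomp, hpow _ (by omega)]
        simp
    exact hy
  exact LinearMap.ext fun x => by rw [hexp, hTz, LinearMap.zero_apply, add_zero, Module.End.one_apply]

end Nilpotent

local notation "O" => (Fin 8 → K)

/-- The opposite coordinate. -/
def opp : Fin 8 → Fin 8 := ![7, 4, 5, 6, 1, 2, 3, 0]

theorem polar_eq_sum (x y : O) :
    polar x y = ∑ i, (if i = 0 ∨ i = 7 then 1 else -1) * x i * y (opp i) := by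
  simp [polar, Fin.sum_univ_eight, opp]
  ring

section Diagonal

variable {a b c : K} (habc : a * b * c = 1) {s : Cfsg.Lie.G2 K}
  (hs : ∀ x, act s x = fun i => dv a b c i * x i)

/-- The coordinates with a given value of the diagonal. -/
def cls (d : Fin 8 → K) (v : K) : Submodule K (Fin 8 → K) where
  carrier := {x | ∀ i, d i ≠ v → x i = 0}
  zero_mem' := fun i _ => rfl
  add_mem' {x y} hx hy := fun i hi => by rw [Pi.add_apply, hx i hi, hy i hi, add_zero]
  smul_mem' r x hx := fun i hi => by rw [Pi.smul_apply, hx i hi, smul_zero]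

theorem mem_cls {d : Fin 8 → K} {v : K} {x : O} : x ∈ cls d v ↔ ∀ i, d i ≠ v → x i = 0 := Iff.rfl

theorem finrank_cls_le [DecidableEq K] (d : Fin 8 → K) (v : K) :
    Module.finrank K (cls d v) ≤ (Finset.univ.filter fun i => d i = v).card := by
  let f : cls d v →ₗ[K] ({i // d i = v} → K) :=
    { toFun := fun x i => x.1 i.1, map_add' := fun x y => rfl, map_smul' := fun c x => rfl }
  refine (LinearMap.finrank_le_finrank_of_injective (f := f) ?_).trans (le_of_eq ?_)
  · intro x y e
    refine Subtype.ext (funext fun i => ?_)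
    by_cases hi : d i = v
    · exact congrFun e ⟨i, hi⟩
    · rw [x.2 i hi, y.2 i hi]
  · rw [Module.finrank_fintype_fun_eq_card, Fintype.card_subtype]

include hs

theorem act_mem_cls {u : Cfsg.Lie.G2 K} (hc : Commute s u) {v : K} {x : O}
    (hx : x ∈ cls (dv a b c) v) : act u x ∈ cls (dv a b c) v := by
  intro i hi
  have h1 : act s x = v • x := by
    rw [hs]
    funext j
    show dv a b c j * x j = v * x j
    by_cases hj : dv a b c j = v
    · rw [hj]
    · rw [hx j hj, mul_zero, mul_zero]
  have h2 := congrFun (congrArg (act u) h1) i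
  rw [← act_mul, ← hc.eq, act_mul, hs, act_smul] at h2
  simp only [Pi.smul_apply, smul_eq_mul] at h2
  exact (mul_eq_zero.1 (show (dv a b c i - v) * act u x i = 0 by linear_combination h2)).resolve_left
    (sub_ne_zero.2 hi)

/-- The restriction of an element to a class of coordinates. -/
def resU (u : Cfsg.Lie.G2 K) (hc : Commute s u) (v : K) : Module.End K (cls (dv a b c) v) where
  toFun x := ⟨act u x.1, act_mem_cls hs hc x.2⟩
  map_add' x y := Subtype.ext (act_add u x.1 y.1)
  map_smul' r x := Subtype.ext (act_smul u r x.1)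

theorem resU_pow {u : Cfsg.Lie.G2 K} (hc : Commute s u) (v : K) (k : ℕ) (x : cls (dv a b c) v) :
    ((resU hs u hc v ^ k) x).1 = act (u ^ k) x.1 := by
  induction k with
  | zero => rw [pow_zero, pow_zero, act_id]; rfl
  | succ k ih => rw [pow_succ', pow_succ', act_mul, ← ih]; rfl

theorem resU_pow_eq_one {u : Cfsg.Lie.G2 K} (hc : Commute s u) (v : K) {k : ℕ} (hk : u ^ k = 1) :
    resU hs u hc v ^ k = 1 :=
  LinearMap.ext fun x => Subtype.ext (by rw [resU_pow, hk, act_id]; rfl)

theorem fixed_of_card_le [DecidableEq K] {p : ℕ} [Fact p.Prime] [CharP K p] {u : Cfsg.Lie.G2 K}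
    (hc : Commute s u) {j k : ℕ} (hu : u ^ p ^ j = 1) (v : K)
    (hn : (Finset.univ.filter fun i => dv a b c i = v).card ≤ p ^ k) :
    ∀ x ∈ cls (dv a b c) v, act (u ^ p ^ k) x = x := by
  intro x hx
  have h := pow_eq_one_of_finrank_le (resU_pow_eq_one hs hc v hu)
    ((finrank_cls_le (dv a b c) v).trans hn)
  have := congrArg Subtype.val (LinearMap.congr_fun h ⟨x, hx⟩)
  rwa [resU_pow] at this

theorem fixed_of_neg_one [DecidableEq K] {p : ℕ} [Fact p.Prime] [CharP K p] (h2 : (2 : K) ≠ 0)
    {u : Cfsg.Lie.G2 K} (hc : Commute s u) {j : ℕ} (hu : u ^ p ^ j = 1) {r : ℕ}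
    (hr : r = 1 ∨ r = p)
    (hn : (Finset.univ.filter fun i => dv a b c i = -1).card ≤ r + 1) :
    ∀ x ∈ cls (dv a b c) (-1), act (u ^ r) x = x := by
  have hp := (Fact.out : p.Prime).one_le
  have hr1 : 1 ≤ r := by rcases hr with rfl | rfl <;> omega
  have hfr := (finrank_cls_le (dv a b c) (-1)).trans hn
  suffices h : resU hs u hc (-1) ^ r = 1 by
    intro x hx
    have := congrArg Subtype.val (LinearMap.congr_fun h ⟨x, hx⟩)
    rwa [resU_pow] at this
  by_cases hV : Subsingleton (cls (dv a b c) (-1))
  · exact LinearMap.ext fun x => Subsingleton.elim _ _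
  haveI : Nontrivial (cls (dv a b c) (-1)) := not_subsingleton_iff_nontrivial.1 hV
  haveI : CharP (Module.End K (cls (dv a b c) (-1))) p := charP_of_injective_algebraMap' K p
  haveI : ExpChar (Module.End K (cls (dv a b c) (-1))) p := ExpChar.prime Fact.out
  rcases Nat.lt_or_eq_of_le hfr with hlt | heq
  · rcases hr with rfl | rfl
    · simpa using pow_eq_one_of_finrank_le (k := 0) (resU_pow_eq_one hs hc _ hu) (by simpa using Nat.lt_succ_iff.1 hlt)
    · simpa using pow_eq_one_of_finrank_le (k := 1) (resU_pow_eq_one hs hc _ hu) (by simpa using Nat.lt_succ_iff.1 hlt)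
  let B : LinearMap.BilinForm K (cls (dv a b c) (-1)) :=
    (polarB : LinearMap.BilinForm K O).compl₁₂ (cls (dv a b c) (-1)).subtype (cls (dv a b c) (-1)).subtype
  refine pow_eq_one_of_isometry B (fun x y => polar_comm x.1 y.1) ?_ h2
    (fun x y => polar_act u x.1 y.1) ?_ hr1 ?_ heq
  · intro x hx
    refine Subtype.ext (funext fun i => ?_)
    by_cases hi : dv a b c i = -1
    swap
    · exact x.2 i hi
    have hoi : dv a b c (opp i) = -1 := by
      have h1 : (1 : K) ≠ -1 := fun e => h2 (by linear_combination e)
      fin_cases i <;> simp [dv, opp] at hi ⊢ <;>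
        first
          | exact absurd hi h1
          | exact inv_eq_iff_eq_inv.1 hi |>.trans (by norm_num)
          | (rw [hi]; norm_num)
          | exact hi
    have h := hx ⟨Pi.single (opp i) 1, fun k hk => by
      rw [Pi.single_eq_of_ne]; exact fun e => hk (e ▸ hoi)⟩
    have h' : polar x.1 (Pi.single (opp i) (1 : K)) = 0 := h
    fin_cases i <;> simp [polar, opp] at h' ⊢ <;> exact h'
  · refine ⟨p ^ j, (sub_pow_expChar_pow_of_commute (R := Module.End K (cls (dv a b c) (-1)))
      (x := resU hs u hc (-1)) (y := 1) p j (Commute.one_right _)).trans ?_⟩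
    rw [resU_pow_eq_one hs hc _ hu, one_pow, sub_self]
  · rcases hr with rfl | rfl
    · rw [pow_one, pow_one]
    · exact ((sub_pow_expChar_of_commute (R := Module.End K (cls (dv a b c) (-1)))
        (x := resU hs u hc (-1)) (y := 1) r (Commute.one_right _)).trans (by rw [one_pow])).symm

/-- An element fixing all coordinates with a value different from one is trivial when the diagonal
element is not trivial. -/
theorem eq_one_of_fixed {h : Cfsg.Lie.G2 K} (hab : ¬ (a = 1 ∧ b = 1 ∧ c = 1))
    (hfix : ∀ v : K, v ≠ 1 → ∀ x ∈ cls (dv a b c) v, act h x = x) (habc : a * b * c = 1) :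
    h = 1 := by
  have ha0 : a ≠ 0 := by rintro rfl; simp at habc
  have hb0 : b ≠ 0 := by rintro rfl; simp at habc
  have hc0 : c ≠ 0 := by rintro rfl; simp at habc
  have hsingle : ∀ i, dv a b c i ≠ 1 → act h (Pi.single i 1) = Pi.single i 1 := fun i hi =>
    hfix _ hi _ fun k hk => Pi.single_eq_of_ne (fun e : k = i => hk (by rw [e])) _
  suffices H : ∀ i, act h (Pi.single i 1) = Pi.single i 1 from
    eq_of_act_eq (g := h) (h := 1) fun x => by
      rw [act_id]
      conv_lhs => rw [← Finset.univ_sum_single x]
      rw [act_sum]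
      conv_rhs => rw [← Finset.univ_sum_single x]
      refine Finset.sum_congr rfl fun i _ => ?_
      rw [show (Pi.single i (x i) : O) = x i • Pi.single i 1 by
        rw [← Pi.single_smul', smul_eq_mul, mul_one], act_smul, H]
  have hprod : ∀ (x y z : O) (e : K), act h x = x → act h y = y → zornMul x y = e • z → e ≠ 0 →
      act h z = z := by
    intro x y z e hx hy hz he
    have h1 := act_zornMul h x y
    rw [hx, hy, hz, act_smul] at h1
    exact smul_right_injective O he h1
  have key : ∀ i j k : Fin 3, ∀ (A B : Fin 3 → Fin 8), A = ![1, 2, 3] → B = ![4, 5, 6] →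
      dv a b c (A i) ≠ 1 → dv a b c (A j) ≠ 1 → j = i + 1 → k = i + 2 →
      ∀ l : Fin 8, act h (Pi.single l 1) = Pi.single l 1 := by
    intro i j k A B hA hB hi hj hij hik
    have hiB : dv a b c (B i) ≠ 1 := by
      subst hA hB
      fin_cases i <;> simpa [dv] using hi
    have hjB : dv a b c (B j) ≠ 1 := by
      subst hA hB
      fin_cases j <;> simpa [dv] using hj
    have fAi := hsingle _ hi
    have fAj := hsingle _ hj
    have fBi := hsingle _ hiB
    have fBj := hsingle _ hjB
    have fBk : act h (Pi.single (B k) 1) = Pi.single (B k) 1 :=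
      hprod _ _ _ 1 fAi fAj (by
        subst hA hB hij hik
        funext l
        fin_cases i <;> fin_cases l <;> simp [zornMul, dot3, cross3]) one_ne_zero
    have fAk : act h (Pi.single (A k) 1) = Pi.single (A k) 1 :=
      hprod _ _ _ (-1) fBi fBj (by
        subst hA hB hij hik
        funext l
        fin_cases i <;> fin_cases l <;> simp [zornMul, dot3, cross3]) (by simp)
    have f0 : act h (Pi.single 0 1) = Pi.single 0 1 :=
      hprod _ _ _ 1 fAi fBi (by
        subst hA hB
        funext l
        fin_cases i <;> fin_cases l <;> simp [zornMul, dot3, cross3]) one_ne_zero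
    have f7 : act h (Pi.single 7 1) = Pi.single 7 1 :=
      hprod _ _ _ 1 fBi fAi (by
        subst hA hB
        funext l
        fin_cases i <;> fin_cases l <;> simp [zornMul, dot3, cross3]) one_ne_zero
    intro l
    subst hA hB hij hik
    fin_cases i <;> fin_cases l <;>
      first | exact f0 | exact f7 | exact fAi | exact fAj | exact fAk | exact fBi | exact fBj | exact fBk
  by_cases ha : a = 1
  · have hb : b ≠ 1 := fun e => hab ⟨ha, e, by rw [ha, e, one_mul, one_mul] at habc; exact habc⟩
    have hc : c ≠ 1 := fun e => hb (by rw [ha, e, one_mul, mul_one] at habc; exact habc)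
    exact key 1 2 0 _ _ rfl rfl (by simpa [dv] using hb) (by simpa [dv] using hc) (by decide) (by decide)
  · by_cases hb : b = 1
    · have hc : c ≠ 1 := fun e => ha (by rw [hb, e, mul_one, mul_one] at habc; exact habc)
      exact key 2 0 1 _ _ rfl rfl (by simpa [dv] using hc) (by simpa [dv] using ha) (by decide) (by decide)
    · exact key 0 1 2 _ _ rfl rfl (by simpa [dv] using ha) (by simpa [dv] using hb) (by decide) (by decide)

end Diagonal

end Cfsg.Agent.G2Orders
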