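import Cfsg.Agent.Lib.G2Orders.Upper

/-!
Elements of given orders in the special linear subgroup and its centraliser products.
-/

set_option autoImplicit false
set_option linter.unusedSectionVars false
set_option linter.unusedSimpArgs false

namespace Cfsg.Agent.G2Orders

open Matrix Cfsg.Lie Cfsg.Agent.Classical.NormalCover.GTwo

variable {F : Type*} [Field F]

theorem slMap_injective {M N : Matrix (Fin 3) (Fin 3) F} (h : ∀ x, slMap M x = slMap N x) : M = N := by
  refine Matrix.ext_of_mulVec_single fun i => ?_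
  have e := congrArg (zA F) (h (vA (Pi.single i 1)))
  rw [zA_slMap, zA_slMap] at e
  have e' : zA F (vA (Pi.single i (1 : F))) = Pi.single i 1 := by funext j; fin_cases j <;> rfl
  rwa [e'] at e

theorem act_pow_slMap {g : Cfsg.Lie.G2 F} {M : Matrix (Fin 3) (Fin 3) F}
    (hg : ∀ x, act g x = slMap M x) : ∀ (k : ℕ) (x : Fin 8 → F), act (g ^ k) x = slMap (M ^ k) x
  | 0, x => by rw [pow_zero, pow_zero, act_id, slMap_id]
  | k + 1, x => by rw [pow_succ', pow_succ', act_mul, act_pow_slMap hg k, hg, slMap_comp]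

theorem orderOf_of_slMap {g : Cfsg.Lie.G2 F} {M : Matrix (Fin 3) (Fin 3) F}
    (hg : ∀ x, act g x = slMap M x) : orderOf g = orderOf M := by
  refine orderOf_eq_orderOf_iff.2 fun k => ⟨fun h => slMap_injective fun x => ?_, fun h => ?_⟩
  · rw [← act_pow_slMap hg, h, act_id, slMap_id]
  · exact eq_of_act_eq fun x => by rw [act_pow_slMap hg, h, slMap_id, act_id]

/-- The block matrix of a two by two matrix. -/
def blockOne (A : Matrix (Fin 2) (Fin 2) F) (d : F) : Matrix (Fin 3) (Fin 3) F :=
  !![d, 0, 0; 0, A 0 0, A 0 1; 0, A 1 0, A 1 1]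

theorem blockOne_mul (A B : Matrix (Fin 2) (Fin 2) F) (d e : F) :
    blockOne A d * blockOne B e = blockOne (A * B) (d * e) := by
  ext i j
  fin_cases i <;> fin_cases j <;> simp [blockOne, Matrix.mul_apply, Fin.sum_univ_two, Fin.sum_univ_three]

theorem blockOne_pow (A : Matrix (Fin 2) (Fin 2) F) (d : F) : ∀ k : ℕ,
    blockOne A d ^ k = blockOne (A ^ k) (d ^ k)
  | 0 => by ext i j; fin_cases i <;> fin_cases j <;> simp [blockOne]
  | k + 1 => by rw [pow_succ, blockOne_pow A d k, blockOne_mul, ← pow_succ, ← pow_succ]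

theorem orderOf_blockOne (A : Matrix (Fin 2) (Fin 2) F) (d : F) (hd : d ^ orderOf A = 1) :
    orderOf (blockOne A d) = orderOf A := by
  refine orderOf_eq_orderOf_iff.2 fun k => ⟨fun h => ?_, fun h => ?_⟩
  · rw [blockOne_pow] at h
    ext i j
    fin_cases i <;> fin_cases j
    · simpa [blockOne] using congrFun (congrFun h 1) 1
    · simpa [blockOne] using congrFun (congrFun h 1) 2
    · simpa [blockOne] using congrFun (congrFun h 2) 1
    · simpa [blockOne] using congrFun (congrFun h 2) 2
  · obtain ⟨t, rfl⟩ : orderOf A ∣ k := orderOf_dvd_of_pow_eq_one h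
    rw [blockOne_pow, h, pow_mul, hd, one_pow]
    ext i j
    fin_cases i <;> fin_cases j <;> simp [blockOne]

theorem det_blockOne (A : Matrix (Fin 2) (Fin 2) F) (d : F) : (blockOne A d).det = d * A.det := by
  simp [blockOne, Matrix.det_fin_three, Matrix.det_fin_two]; ring

variable [Fintype F]

/-- A matrix from the regular representation of an extension field. -/
theorem exists_regular (n : ℕ) [NeZero n] : ∃ (M : Matrix (Fin n) (Fin n) F) (N1 : Matrix (Fin n) (Fin n) F),
    orderOf M = Fintype.card F ^ n - 1 ∧ N1.det = 1 ∧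
      orderOf N1 * (Fintype.card F - 1) = Fintype.card F ^ n - 1 := by
  obtain ⟨p, hp⟩ := CharP.exists F
  haveI := hp
  haveI : Fact p.Prime := ⟨CharP.char_is_prime F p⟩
  let E := FiniteField.Extension F p n
  haveI : Module.Finite F E := Module.Finite.of_finite
  haveI := Fintype.ofFinite E
  have hfr : Module.finrank F E = n := FiniteField.finrank_extension F p n
  have hcard : Fintype.card E = Fintype.card F ^ n := by
    rw [Module.card_eq_pow_finrank (K := F), hfr]
  let b := Module.finBasisOfFinrankEq F E hfr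
  let L : E →ₐ[F] Matrix (Fin n) (Fin n) F := Algebra.leftMulMatrix b
  have hL : Function.Injective (L.toRingHom.toMonoidHom.comp (Units.coeHom E)) := fun x y h =>
    Units.ext (Algebra.leftMulMatrix_injective b h)
  obtain ⟨g, hg⟩ := IsCyclic.exists_generator (α := Eˣ)
  have hog : orderOf g = Fintype.card F ^ n - 1 := by
    rw [orderOf_eq_card_of_forall_mem_zpowers hg, Nat.card_units, Nat.card_eq_fintype_card, hcard]
  obtain ⟨h, hh⟩ : ∃ h : Eˣ, h = g ^ (Fintype.card F - 1) := ⟨_, rfl⟩
  refine ⟨L (g : E), L (h : E), ?_, ?_, ?_⟩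
  · exact (orderOf_injective _ hL g).trans hog
  · show (Algebra.leftMulMatrix b (h : E)).det = 1
    rw [← Algebra.norm_eq_matrix_det, hh, Units.val_pow_eq_pow_val, map_pow,
      FiniteField.pow_card_sub_one_eq_one]
    exact fun e => g.ne_zero (Algebra.norm_eq_zero_iff.1 e)
  · have e : orderOf (L (h : E)) = orderOf h := orderOf_injective _ hL h
    have hdvd : Fintype.card F - 1 ∣ Fintype.card F ^ n - 1 := by
      simpa using Nat.sub_dvd_pow_sub_pow (Fintype.card F) 1 n
    rw [e, hh, orderOf_pow_of_dvd (Nat.sub_ne_zero_of_lt Fintype.one_lt_card) (by rw [hog]; exact hdvd),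
      hog, Nat.div_mul_cancel hdvd]

theorem exists_order_sq_sub_one : ∃ g : Cfsg.Lie.G2 F, orderOf g = Fintype.card F ^ 2 - 1 := by
  obtain ⟨A, -, hA, -, -⟩ := exists_regular (F := F) 2
  have hq : 1 ≤ Fintype.card F ^ 2 - 1 := by
    have := Nat.pow_le_pow_left (Fintype.one_lt_card (α := F)) 2
    norm_num at this ⊢
    omega
  have hpow : A ^ orderOf A = 1 := pow_orderOf_eq_one A
  have hdet : A.det ≠ 0 := by
    intro h0
    have e := congrArg Matrix.det hpow
    rw [Matrix.det_pow, h0, zero_pow (by omega), Matrix.det_one] at e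
    exact zero_ne_one e
  have hd : A.det⁻¹ ^ orderOf A = 1 := by
    rw [inv_pow, ← Matrix.det_pow, hpow, Matrix.det_one, inv_one]
  obtain ⟨g, hg⟩ := exists_sl_elt (M := blockOne A A.det⁻¹)
    (by rw [det_blockOne, inv_mul_cancel₀ hdet])
  exact ⟨g, by rw [orderOf_of_slMap hg, orderOf_blockOne _ _ hd, hA]⟩

theorem exists_order_quad_plus :
    ∃ g : Cfsg.Lie.G2 F, orderOf g = Fintype.card F ^ 2 + Fintype.card F + 1 := by
  obtain ⟨-, N, -, hN, ho⟩ := exists_regular (F := F) 3
  obtain ⟨g, hg⟩ := exists_sl_elt hN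
  refine ⟨g, ?_⟩
  rw [orderOf_of_slMap hg]
  obtain ⟨k, hk⟩ : ∃ k, Fintype.card F = k + 2 := ⟨Fintype.card F - 2, by
    have := Fintype.one_lt_card (α := F); omega⟩
  rw [hk] at ho ⊢
  have e1 : (k + 2) ^ 3 - 1 = ((k + 2) ^ 2 + (k + 2) + 1) * (k + 2 - 1) := by
    rw [show k + 2 - 1 = k + 1 from rfl]
    exact Nat.sub_eq_of_eq_add (by ring)
  rw [e1] at ho
  exact Nat.eq_of_mul_eq_mul_right (by omega) ho

theorem exists_order_p_mul {p : ℕ} [Fact p.Prime] [CharP F p] {D : Matrix (Fin 2) (Fin 2) F}
    (hD : D.det = 1) {N : ℕ} (hN : orderOf D = N) (hpN : ¬ p ∣ N) :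
    ∃ g : Cfsg.Lie.G2 F, orderOf g = p * N := by
  have hp := (Fact.out : p.Prime)
  obtain ⟨s, hs⟩ := exists_sl_elt (M := blockOne D 1) (by rw [det_blockOne, hD, one_mul])
  have hso : orderOf s = N := by rw [orderOf_of_slMap hs, orderOf_blockOne _ _ (one_pow _), hN]
  have huo : orderOf (xr (F := F) 7 1) = p := by
    refine orderOf_eq_prime ?_ ?_
    · have h : ∀ k : ℕ, xr (F := F) 7 1 ^ k = xr 7 (k : F) := by
        intro k
        induction k with
        | zero =>
          rw [pow_zero, Nat.cast_zero]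
          exact toM_injective (by rw [toM_xr (by norm_num), rootM_zero, toM_one])
        | succ k ih => rw [pow_succ, ih, xr_add (by norm_num), Nat.cast_succ]
      rw [h, CharP.cast_eq_zero]
      exact toM_injective (by rw [toM_xr (by norm_num), rootM_zero, toM_one])
    · intro h
      have h2 := congrFun (congrFun (congrArg toM h) 6) 2
      rw [toM_xr (by norm_num), toM_one] at h2
      simp [rootM, rootTab, sgl, Matrix.single_apply] at h2
  have hc : Commute (xr (F := F) 7 1) s := by
    refine eq_of_act_eq fun x => ?_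
    rw [act_mul, act_mul, hs, hs, act_xr_seven, act_xr_seven]
    rw [Matrix.det_fin_two] at hD
    funext i
    fin_cases i <;>
      simp [slMap, blockOne, Matrix.adjugate_fin_three, Matrix.mulVec, dotProduct, Fin.sum_univ_three] <;>
      first
        | linear_combination (x 0) * hD
        | linear_combination (-x 0) * hD
        | linear_combination (x 4) * hD
        | linear_combination (-x 4) * hD
        | linear_combination (x 7 - x 0 - x 4) * hD
        | linear_combination (x 0 + x 4 - x 7) * hD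
        | ring
  exact ⟨xr 7 1 * s, by
    rw [hc.orderOf_mul_eq_mul_orderOf_of_coprime (by
      rw [huo, hso]; exact (Nat.Prime.coprime_iff_not_dvd hp).2 hpN), huo, hso]⟩

theorem exists_order_p_mul_pred_succ {p : ℕ} [Fact p.Prime] [CharP F p] :
    (∃ g : Cfsg.Lie.G2 F, orderOf g = p * (Fintype.card F - 1)) ∧
      ∃ g : Cfsg.Lie.G2 F, orderOf g = p * (Fintype.card F + 1) := by
  have hp := (Fact.out : p.Prime)
  obtain ⟨n, -, hq⟩ := FiniteField.card F p
  have hdvd : p ∣ Fintype.card F := hq ▸ dvd_pow_self p n.ne_zero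
  have h1 : 1 < Fintype.card F := Fintype.one_lt_card
  constructor
  · obtain ⟨g, hg⟩ := IsCyclic.exists_generator (α := Fˣ)
    have hog : orderOf g = Fintype.card F - 1 := by
      rw [orderOf_eq_card_of_forall_mem_zpowers hg, Nat.card_units, Nat.card_eq_fintype_card]
    refine exists_order_p_mul (D := Matrix.diagonal ![(g : F), ((g⁻¹ : Fˣ) : F)])
      (by simp [Matrix.det_diagonal, Fin.prod_univ_two]) ?_ fun h => ?_
    · rw [← hog]
      refine orderOf_eq_orderOf_iff.2 fun k => ⟨fun h => ?_, fun h => ?_⟩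
      · rw [Matrix.diagonal_pow] at h
        have h0 := congrFun (congrFun h 0) 0
        exact Units.ext (by simpa using h0)
      · rw [Matrix.diagonal_pow]
        ext i j
        have hv : (g : F) ^ k = 1 := by rw [← Units.val_pow_eq_pow_val, h, Units.val_one]
        fin_cases i <;> fin_cases j <;> simp [hv]
    · have h3 := Nat.dvd_sub hdvd h
      rw [show Fintype.card F - (Fintype.card F - 1) = 1 by omega] at h3
      exact hp.one_lt.ne' (Nat.dvd_one.1 h3)
  · obtain ⟨-, N, -, hN, ho⟩ := exists_regular (F := F) 2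
    refine exists_order_p_mul hN ?_ fun h => hp.one_lt.ne' (Nat.dvd_one.1 ((Nat.dvd_add_right hdvd).1 h))
    have e : Fintype.card F ^ 2 - 1 = (Fintype.card F + 1) * (Fintype.card F - 1) := by
      simpa using Nat.sq_sub_sq (Fintype.card F) 1
    rw [e] at ho
    exact Nat.eq_of_mul_eq_mul_right (by omega) ho

end Cfsg.Agent.G2Orders
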