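import Cfsg.Agent.Lib.G2Orders.ExistSL
import Cfsg.Agent.Lib.Forms.Bases
import Cfsg.Agent.Lib.Classical.PSUThreeSpectrum

/-!
The special unitary group in the automorphisms of the split octonions, and an element of the order of
its cubic torus.
-/

set_option autoImplicit false
set_option linter.unusedSectionVars false
set_option linter.unusedSimpArgs false

namespace Cfsg.Agent.G2Orders

open Matrix Cfsg.Lie Cfsg.Agent.Classical.NormalCover.GTwo

section Lift

open Cfsg.Agent.Classical Cfsg.Agent.Forms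

variable {E : Type*} [Field E] [Fintype E] {q : ℕ}

theorem exists_su_order (p : ℕ) [Fact p.Prime] [CharP E p] (hE : Fintype.card E = q ^ 2) (hq : 3 ≤ q) :
    ∃ g : Cfsg.SU 3 E q, orderOf g = q ^ 2 - q + 1 := by
  set m := q ^ 2 - q + 1 with hm
  set d := Nat.gcd 3 (q + 1) with hd
  obtain ⟨x, hx⟩ := PSUThree.order_singer hE p hq
  rw [← hm, ← hd] at hx
  obtain ⟨g, rfl⟩ := QuotientGroup.mk_surjective x
  have hdvd1 : m / d ∣ orderOf g := by
    rw [← hx]
    exact orderOf_map_dvd (QuotientGroup.mk' _) g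
  have hmpos : 0 < m := by omega
  rcases (Nat.dvd_prime Nat.prime_three).1 (Nat.gcd_dvd_left 3 (q + 1)) with h1 | h3
  · rw [← hd] at h1
    rw [h1, Nat.div_one] at hdvd1
    refine ⟨g ^ (orderOf g / m), ?_⟩
    have h0 : orderOf g ≠ 0 := (orderOf_pos g).ne'
    rw [orderOf_pow_of_dvd (Nat.div_pos (Nat.le_of_dvd (orderOf_pos g) hdvd1) hmpos).ne'
      (Nat.div_dvd_of_dvd hdvd1), Nat.div_div_self hdvd1 h0]
  rw [← hd] at h3
  rw [h3] at hx hdvd1
  obtain ⟨t, ht⟩ : 3 ∣ q + 1 := h3 ▸ Nat.gcd_dvd_right 3 (q + 1)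
  obtain ⟨m', hm'⟩ : ∃ m', m = 3 * m' ∧ ¬ 3 ∣ m' := by
    obtain ⟨s, hs⟩ : ∃ s, t = s + 2 := ⟨t - 2, by omega⟩
    have hqs : q = 3 * s + 5 := by omega
    have hle : q ≤ q ^ 2 := Nat.le_self_pow (by norm_num) q
    have e : q ^ 2 - q = 3 * (3 * (s ^ 2 + 3 * s + 2)) + 2 := by
      apply Nat.sub_eq_of_eq_add
      subst hqs; ring
    exact ⟨3 * (s ^ 2 + 3 * s + 2) + 1, by omega, by omega⟩
  obtain ⟨hm', hm3⟩ := hm'
  rw [hm', Nat.mul_div_cancel_left _ (by norm_num)] at hx hdvd1
  -- the order is one of two values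
  obtain ⟨a, ha⟩ := (PSUThree.mk_pow_eq_one hE g m').1 (hx ▸ pow_orderOf_eq_one _)
  have ha3 : a ^ 3 = 1 := by
    have h := congrArg Matrix.det ha
    rw [Matrix.det_pow, show (Unitary.mat g).det = 1 from g.1.2, one_pow, Matrix.det_smul,
      Matrix.det_one, mul_one, Fintype.card_fin] at h
    exact h.symm
  have hmatpow : ∀ k : ℕ, Unitary.mat (g ^ k) = Unitary.mat g ^ k := by
    intro k
    induction k with
    | zero => rfl
    | succ k ih => rw [pow_succ, pow_succ, Unitary.mat_mul, ih]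
  have hmat_inj : ∀ x y : Cfsg.SU 3 E q, Unitary.mat x = Unitary.mat y → x = y := fun x y h =>
    Subtype.ext (Subtype.ext h)
  have hupper : orderOf g ∣ 3 * m' := orderOf_dvd_of_pow_eq_one (hmat_inj _ _ (by
    rw [hmatpow, mul_comm 3 m', pow_mul, ha, _root_.smul_pow, one_pow, ha3, one_smul]; rfl))
  obtain ⟨k, hk⟩ := hdvd1
  rw [hk, mul_comm 3 m'] at hupper
  have hk3 : k ∣ 3 := (Nat.mul_dvd_mul_iff_left (show 0 < m' by omega)).1 hupper
  rcases (Nat.dvd_prime Nat.prime_three).1 hk3 with rfl | rfl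
  swap
  · exact ⟨g, by rw [hk, hm', mul_comm]⟩
  -- multiply by a scalar of order three
  obtain ⟨w, hw⟩ := IsCyclic.exists_generator (α := Eˣ)
  have how : orderOf w = q ^ 2 - 1 := by
    rw [orderOf_eq_card_of_forall_mem_zpowers hw, Nat.card_units, Nat.card_eq_fintype_card, hE]
  have hq21 : q ^ 2 - 1 = (q + 1) * (q - 1) := by simpa using Nat.sq_sub_sq q 1
  obtain ⟨b, hb⟩ : ∃ b : Eˣ, orderOf b = 3 := ⟨w ^ ((q ^ 2 - 1) / 3), by
    have hdvd : 3 ∣ q ^ 2 - 1 := hq21 ▸ Dvd.dvd.mul_right ⟨t, ht⟩ _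
    have hpos : 0 < q ^ 2 - 1 := by rw [hq21]; exact Nat.mul_pos (by omega) (by omega)
    rw [orderOf_pow_of_dvd (Nat.div_pos (Nat.le_of_dvd hpos hdvd) (by norm_num)).ne'
      (by rw [how]; exact Nat.div_dvd_of_dvd hdvd), how, Nat.div_div_self hdvd hpos.ne']⟩
  have hb3 : (b : E) ^ 3 = 1 := by
    rw [← Units.val_pow_eq_pow_val, ← hb, pow_orderOf_eq_one, Units.val_one]
  have hbq : (b : E) * (b : E) ^ q = 1 := by
    rw [← pow_succ', ht, pow_mul, hb3, one_pow]
  let c : Cfsg.SU 3 E q := Unitary.suMk ((b : E) • (1 : Matrix (Fin 3) (Fin 3) E))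
    (by rw [Matrix.det_smul, Matrix.det_one, mul_one, Fintype.card_fin, hb3])
    (fun u v => by
      simp only [Matrix.smul_mulVec, Matrix.one_mulVec, Cfsg.hermForm, Pi.smul_apply, smul_eq_mul,
        mul_pow]
      refine Finset.sum_congr rfl fun i _ => ?_
      linear_combination (u i * v i ^ q) * hbq)
  have hco : orderOf c = 3 := by
    refine orderOf_eq_prime (hmat_inj _ _ ?_) fun h => ?_
    · rw [show c ^ 3 = c * (c * c) by rw [pow_succ', pow_two], Unitary.mat_mul, Unitary.mat_mul,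
        Unitary.mat_one]
      show ((b : E) • (1 : Matrix (Fin 3) (Fin 3) E)) *
        (((b : E) • (1 : Matrix (Fin 3) (Fin 3) E)) * ((b : E) • (1 : Matrix (Fin 3) (Fin 3) E))) = 1
      simp only [smul_mul, Matrix.one_mul, smul_smul]
      rw [show (b : E) * ((b : E) * b) = (b : E) ^ 3 by ring, hb3, one_smul]
    · have h00 : ((b : E) • (1 : Matrix (Fin 3) (Fin 3) E)) 0 0 = (1 : Matrix (Fin 3) (Fin 3) E) 0 0 :=
        congrFun (congrFun (congrArg Unitary.mat h) 0) 0
      simp only [Matrix.smul_apply, Matrix.one_apply_eq, smul_eq_mul, mul_one] at h00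
      rw [(Units.ext h00 : b = 1), orderOf_one] at hb
      omega
  have hc : Commute c g := hmat_inj _ _ (by
    rw [Unitary.mat_mul, Unitary.mat_mul]
    show ((b : E) • (1 : Matrix (Fin 3) (Fin 3) E)) * Cfsg.Agent.Classical.Unitary.mat g =
      Cfsg.Agent.Classical.Unitary.mat g * ((b : E) • (1 : Matrix (Fin 3) (Fin 3) E))
    simp [Matrix.mul_smul])
  refine ⟨c * g, ?_⟩
  rw [hc.orderOf_mul_eq_mul_orderOf_of_coprime (by
    rw [hco, hk, mul_one]; exact (Nat.Prime.coprime_iff_not_dvd Nat.prime_three).2 hm3), hco, hk, mul_one,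
    hm']

end Lift

section Descent

variable {F E : Type*} [Field F] [Field E] (φ : F →+* E) (σ : E →+* E)

/-- A conjugate linear map on the algebra. -/
def conjV (x : Fin 8 → E) : Fin 8 → E := σ ∘ x

theorem conjV_zornMul (x y : Fin 8 → E) :
    conjV σ (zornMul x y) = zornMul (conjV σ x) (conjV σ y) := (zornMul_map σ x y).symm

theorem conjV_polar (x y : Fin 8 → E) : polar (conjV σ x) (conjV σ y) = σ (polar x y) := by
  simp [polar, conjV]

theorem conjV_act (g : Cfsg.Lie.G2 E) (x : Fin 8 → E) :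
    act (mapG σ g) (conjV σ x) = conjV σ (act g x) := by
  funext i
  exact (RingHom.map_mulVec σ (toM g) x i).symm

theorem exists_descend (hfix : ∀ y : E, σ y = y → ∃ x, φ x = y) {g : Cfsg.Lie.G2 E}
    (hg : mapG σ g = g) : ∃ h : Cfsg.Lie.G2 F, mapG φ h = g := by
  have hent : ∀ i j, ∃ x, φ x = toM g i j := fun i j => hfix _
    (congrFun (congrFun (congrArg toM hg) i) j)
  choose N hN using hent
  have hNM : (Matrix.of N).map φ = toM g := by ext i j; exact hN i j
  have hdet : (Matrix.of N).det ≠ 0 := by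
    intro h0
    have h := φ.map_det (Matrix.of N)
    rw [h0, map_zero, RingHom.mapMatrix_apply, hNM] at h
    exact ((Matrix.isUnit_iff_isUnit_det (toM g)).1 (g : GL (Fin 8) E).isUnit).ne_zero h.symm
  obtain ⟨u, hu⟩ : ∃ u : GL (Fin 8) F, (u : Matrix (Fin 8) (Fin 8) F) = Matrix.of N :=
    ⟨Matrix.GeneralLinearGroup.mkOfDetNeZero _ hdet, rfl⟩
  have hmem : u ∈ Cfsg.Lie.G2 F := by
    intro x y
    show _ *ᵥ _ = _
    have e : ∀ z, φ ∘ ((Units.coeHom (Matrix (Fin 8) (Fin 8) F)) u *ᵥ z) = act g (φ ∘ z) := fun z => by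
      funext i
      show φ (((u : Matrix (Fin 8) (Fin 8) F) *ᵥ z) i) = _
      rw [hu, RingHom.map_mulVec, hNM]
      rfl
    have hinj : Function.Injective fun z : Fin 8 → F => φ ∘ z := fun a b h =>
      funext fun i => φ.injective (congrFun h i)
    refine hinj ?_
    show φ ∘ _ = φ ∘ _
    rw [e, ← zornMul_map, act_zornMul, ← zornMul_map, e, e]
  refine ⟨⟨u, hmem⟩, toM_injective ?_⟩
  rw [toM_mapG]
  show (u : Matrix (Fin 8) (Fin 8) F).map φ = _
  rw [hu, hNM]

end Descent

section Main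

variable {F : Type*} [Field F] [Fintype F]

theorem exists_order_quad_minus (hq : 3 ≤ Fintype.card F) :
    ∃ g : Cfsg.Lie.G2 F, orderOf g = Fintype.card F ^ 2 - Fintype.card F + 1 := by
  classical
  obtain ⟨p, hp⟩ := CharP.exists F
  haveI := hp
  haveI : Fact p.Prime := ⟨CharP.char_is_prime F p⟩
  obtain ⟨E, _, _, _, hfr⟩ : ∃ (E : Type) (_ : Field E) (_ : Algebra F E) (_ : Finite E),
      Module.finrank F E = 2 := by
    haveI : Finite (FiniteField.Extension F p 2) := inferInstance
    exact ⟨FiniteField.Extension F p 2, inferInstance, inferInstance, inferInstance,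
      FiniteField.finrank_extension F p 2⟩
  haveI : Module.Finite F E := Module.Finite.of_finite
  haveI := Fintype.ofFinite E
  haveI : CharP E p := charP_of_injective_algebraMap (algebraMap F E).injective p
  have hcard : Fintype.card E = Fintype.card F ^ 2 := by
    rw [Module.card_eq_pow_finrank (K := F), hfr]
  obtain ⟨n, hn, hqn⟩ := FiniteField.card F p
  haveI : ExpChar E p := ExpChar.prime Fact.out
  obtain ⟨σ, hσ⟩ : ∃ σ : E →+* E, ∀ x, σ x = x ^ Fintype.card F :=
    ⟨iterateFrobenius E p n, fun x => by rw [hqn]; rfl⟩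
  have hσ2 : ∀ x, σ (σ x) = x := fun x => by
    rw [hσ, hσ, ← pow_mul, ← sq, ← hcard, FiniteField.pow_card]
  obtain ⟨θ, hθ⟩ : ∃ θ : E, σ θ ≠ θ := by
    by_contra h
    push Not at h
    have hX : ∀ x : E, x ∈ (Polynomial.X ^ Fintype.card F - Polynomial.X : Polynomial E).roots := by
      intro x
      rw [Polynomial.mem_roots (FiniteField.X_pow_card_sub_X_ne_zero E (by omega))]
      simp [← hσ, h x]
    have h1 := Finset.card_le_card (s := (Finset.univ : Finset E))
      (t := (Polynomial.X ^ Fintype.card F - Polynomial.X : Polynomial E).roots.toFinset)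
      (fun x _ => Multiset.mem_toFinset.2 (hX x))
    have h2 := (Multiset.toFinset_card_le _).trans
      (Polynomial.card_roots' (Polynomial.X ^ Fintype.card F - Polynomial.X : Polynomial E))
    rw [FiniteField.X_pow_card_sub_X_natDegree_eq E (by omega)] at h2
    rw [Finset.card_univ, hcard] at h1
    have : Fintype.card F * 2 ≤ Fintype.card F ^ 2 := by rw [sq]; exact Nat.mul_le_mul_left _ (by omega)
    omega
  have hσne : σ ≠ RingHom.id E := fun e => hθ (by rw [e]; rfl)
  have hfix : ∀ y : E, σ y = y → ∃ x, algebraMap F E x = y := by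
    intro y hy
    have hX := FiniteField.X_pow_card_sub_X_ne_zero E (p := Fintype.card F) (by omega)
    let S := (Finset.univ : Finset F).image (algebraMap F E)
    have hS : S = (Polynomial.X ^ Fintype.card F - Polynomial.X : Polynomial E).roots.toFinset := by
      refine Finset.eq_of_subset_of_card_le (fun x hx => ?_) ?_
      · obtain ⟨c, -, rfl⟩ := Finset.mem_image.1 hx
        rw [Multiset.mem_toFinset, Polynomial.mem_roots hX]
        simp [← map_pow, FiniteField.pow_card]
      · rw [Finset.card_image_of_injective _ (algebraMap F E).injective, Finset.card_univ]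
        refine (Multiset.toFinset_card_le _).trans ((Polynomial.card_roots' _).trans ?_)
        rw [FiniteField.X_pow_card_sub_X_natDegree_eq E (by omega)]
    have : y ∈ S := by
      rw [hS, Multiset.mem_toFinset, Polynomial.mem_roots hX]
      simp [← hσ, hy]
    obtain ⟨c, -, hc⟩ := Finset.mem_image.1 this
    exact ⟨c, hc⟩
  -- the idempotent of the quadratic subfield
  obtain ⟨θ', hθ'⟩ : ∃ θ', θ' = σ θ := ⟨_, rfl⟩
  have hθθ : σ θ' = θ := by rw [hθ', hσ2]
  have hd : θ - θ' ≠ 0 := sub_ne_zero.2 fun e => hθ (by rw [← hθ', ← e])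
  obtain ⟨w, hw⟩ : ∃ w : Fin 8 → E, w = ![0, 1, 0, 0, -(θ * θ'), 0, 0, θ + θ'] := ⟨_, rfl⟩
  obtain ⟨z, hz⟩ : ∃ z : Fin 8 → E, z = (θ - θ')⁻¹ • (w + (-θ') • unit E) := ⟨_, rfl⟩
  have hσw : conjV σ w = w := by
    funext i
    fin_cases i <;> simp [conjV, hw, hθ', hσ2] <;> ring
  have htz : tr z = 1 := by
    rw [hz, tr_smul, tr_add, tr_smul, show tr w = θ + θ' by simp [hw, tr],
      show tr (unit E) = 1 + 1 by simp [tr, unit],
      show θ + θ' + -θ' * (1 + 1) = θ - θ' by ring, inv_mul_cancel₀ hd]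
  have hnz : nrm z = 0 := by
    have e : ∀ (c : E) (x : Fin 8 → E), nrm (c • x) = c * c * nrm x := fun c x => by simp [nrm]; ring
    rw [hz, e, nrm_add_unit, show tr w = θ + θ' by simp [hw, tr],
      show nrm w = θ * θ' by simp [hw, nrm]]
    ring
  have hσz : conjV σ z = unit E + (-1 : E) • z := by
    have h1 : conjV σ z = (θ' - θ)⁻¹ • (w + (-θ) • unit E) := by
      funext i
      have hwi : σ (w i) = w i := congrFun hσw i
      have hui : σ (unit E i) = unit E i := by fin_cases i <;> simp [unit]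
      simp only [conjV, Function.comp_apply, hz, Pi.smul_apply, Pi.add_apply, smul_eq_mul, map_mul,
        map_inv₀, map_sub, map_add, map_neg, ← hθ', hθθ, hwi, hui]
    rw [h1, hz]
    funext i
    simp only [Pi.smul_apply, Pi.add_apply, smul_eq_mul]
    rw [show (θ' - θ)⁻¹ = -(θ - θ')⁻¹ by rw [← inv_neg, neg_sub]]
    linear_combination (unit E i) * inv_mul_cancel₀ hd
  obtain ⟨Q, hQ⟩ := exists_act_E0 htz hnz
  -- the hermitian form on the first Peirce space of the idempotent
  let P : (Fin 3 → E) → (Fin 8 → E) := fun x => act Q⁻¹ (vA x)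
  have hPadd : ∀ x y, P (x + y) = P x + P y := fun x y => by
    simp only [P]
    rw [← act_add]; congr 1; funext i; fin_cases i <;> simp [vA]
  have hPsmul : ∀ (c : E) x, P (c • x) = c • P x := fun c x => by
    simp only [P]
    rw [← act_smul]; congr 1; funext i; fin_cases i <;> simp [vA]
  have hPz : ∀ x, zornMul z (P x) = P x ∧ zornMul (P x) z = 0 := by
    intro x
    have hz' : z = act Q⁻¹ (E0 E) := by rw [← hQ, act_inv_act]
    constructor
    · rw [hz', show P x = act Q⁻¹ (vA x) from rfl, ← act_zornMul, (vA_mul x).1]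
    · rw [hz', show P x = act Q⁻¹ (vA x) from rfl, ← act_zornMul, (vA_mul x).2, act_zero]
  -- conjugates of the first space lie in the second
  have hσP : ∀ y, ∃ b, act Q (conjV σ (P y)) = vB b := by
    intro y
    refine ⟨_, eq_vB ?_ ?_⟩
    all_goals
      have h1 := congrArg (conjV σ) (hPz y).1
      have h2 := congrArg (conjV σ) (hPz y).2
      rw [conjV_zornMul, hσz] at h1 h2
      have hu : ∀ v : Fin 8 → E, zornMul (unit E + (-1 : E) • z) v = v + (-1 : E) • zornMul z v := by
        intro v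
        show zornB E (unit E + (-1 : E) • z) v = _
        rw [map_add, map_smul, LinearMap.add_apply, LinearMap.smul_apply]
        show zornMul (unit E) v + (-1 : E) • zornMul z v = _
        rw [unit_mul]
      have hu' : ∀ v : Fin 8 → E, zornMul v (unit E + (-1 : E) • z) = v + (-1 : E) • zornMul v z := by
        intro v
        show zornB E v (unit E + (-1 : E) • z) = _
        rw [map_add, map_smul]
        show zornMul v (unit E) + (-1 : E) • zornMul v z = _
        rw [mul_unit]
      rw [hu] at h1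
      rw [hu', show conjV σ (0 : Fin 8 → E) = 0 by funext i; simp [conjV]] at h2
      rw [neg_one_smul, add_eq_left, neg_eq_zero] at h1
      rw [neg_one_smul, add_neg_eq_zero] at h2
      rw [← hQ, ← act_zornMul]
    · rw [← h2]
    · rw [h1, act_zero]
  let Bil : (Fin 3 → E) →ₛₗ[σ] (Fin 3 → E) →ₗ[E] E :=
    LinearMap.mk₂'ₛₗ σ (RingHom.id E) (fun y x => polar (P x) (conjV σ (P y)))
      (fun a b x => by simp [hPadd, conjV, polar]; ring)
      (fun c a x => by simp [hPsmul, conjV, polar]; ring)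
      (fun a x y => by simp [hPadd, conjV, polar]; ring)
      (fun c a x => by simp [hPsmul, conjV, polar]; ring)
  have hBil : ∀ y x, Bil y x = polar (P x) (conjV σ (P y)) := fun y x => rfl
  have hinvol : ∀ v : Fin 8 → E, conjV σ (conjV σ v) = v := fun v => funext fun i => hσ2 (v i)
  have hsym : Bil.IsSymm := ⟨fun y x => by
    rw [hBil, hBil, ← conjV_polar σ, hinvol, polar_comm]⟩
  have hsep : Bil.SeparatingLeft := by
    intro y hy
    obtain ⟨b, hb⟩ := hσP y
    have h0 : ∀ x, polar (vA x) (vB b) = 0 := fun x => by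
      rw [← hb, ← act_act_inv Q (vA x), polar_act]
      exact hy x
    have hb0 : b = 0 := by
      funext i
      have := h0 (Pi.single i 1)
      fin_cases i <;> simpa [polar, vA, vB] using this
    rw [hb0] at hb
    have h1 : conjV σ (P y) = 0 := by
      rw [← act_inv_act Q (conjV σ (P y)), hb,
        show vB (0 : Fin 3 → E) = 0 by funext i; fin_cases i <;> simp [vB], act_zero]
    have h2 : P y = 0 := by
      rw [← hinvol (P y), h1]; funext i; simp [conjV]
    have h3 : vA y = 0 := by rw [← act_act_inv Q (vA y), show act Q⁻¹ (vA y) = 0 from h2, act_zero]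
    funext i
    fin_cases i
    · exact congrFun h3 1
    · exact congrFun h3 2
    · exact congrFun h3 3
  obtain ⟨b, hb⟩ := Cfsg.Agent.Forms.Bases.exists_orthonormal_basis σ hσne hσ2 Bil hsym hsep
  let bb := b.reindex (finCongr (Module.finrank_fin_fun E))
  have hbb : ∀ i j, Bil (bb i) (bb j) = if i = j then 1 else 0 := fun i j => by
    simp [bb, hb, Fin.ext_iff]
  let Γ : (Fin 3 → E) ≃ₗ[E] (Fin 3 → E) := bb.equivFun.symm
  have hΓ : ∀ u v, Bil (Γ v) (Γ u) = Cfsg.hermForm 3 E (Fintype.card F) u v := by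
    intro u v
    simp only [Γ, Module.Basis.equivFun_symm_apply, Cfsg.hermForm, map_sum, LinearMap.map_smulₛₗ,
      LinearMap.coe_sum, Finset.sum_apply, LinearMap.smul_apply, RingHom.id_apply, smul_eq_mul, hbb,
      Fin.sum_univ_three, hσ]
    simp [Fin.sum_univ_three, hbb, hσ]
    try ring
  obtain ⟨g0, hg0⟩ := exists_su_order p hcard hq
  obtain ⟨G, hG⟩ : ∃ G : Matrix (Fin 3) (Fin 3) E, G = Cfsg.Agent.Classical.Unitary.mat g0 := ⟨_, rfl⟩
  obtain ⟨Γm, hΓm⟩ : ∃ A : Matrix (Fin 3) (Fin 3) E, A = LinearMap.toMatrix' Γ.toLinearMap := ⟨_, rfl⟩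
  obtain ⟨Γi, hΓi⟩ : ∃ A : Matrix (Fin 3) (Fin 3) E, A = LinearMap.toMatrix' Γ.symm.toLinearMap := ⟨_, rfl⟩
  have hA : ∀ x, Γm *ᵥ x = Γ x := fun x => by rw [hΓm]; exact LinearMap.toMatrix'_mulVec _ x
  have hA' : ∀ x, Γi *ᵥ x = Γ.symm x := fun x => by rw [hΓi]; exact LinearMap.toMatrix'_mulVec _ x
  have hAA : Γm * Γi = 1 := Matrix.ext_of_mulVec_single fun i => by
    rw [← Matrix.mulVec_mulVec, hA, hA', LinearEquiv.apply_symm_apply, Matrix.one_mulVec]
  obtain ⟨M, hM⟩ : ∃ M, M = Γm * G * Γi := ⟨_, rfl⟩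
  have hGdet : G.det = 1 := hG ▸ g0.1.2
  have hMdet : M.det = 1 := by
    rw [hM, Matrix.det_mul, Matrix.det_mul, hGdet, mul_one, ← Matrix.det_mul, hAA, Matrix.det_one]
  have hMB : ∀ x y, Bil (M *ᵥ y) (M *ᵥ x) = Bil y x := by
    intro x y
    obtain ⟨u, rfl⟩ := Γ.surjective x
    obtain ⟨v, rfl⟩ := Γ.surjective y
    have e : ∀ u, M *ᵥ Γ u = Γ (G *ᵥ u) := fun u => by
      rw [hM, ← Matrix.mulVec_mulVec, ← Matrix.mulVec_mulVec, hA', LinearEquiv.symm_apply_apply, hA]
    rw [e, e, hΓ, hΓ, hG]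
    exact g0.2 u v
  obtain ⟨s, hs⟩ := exists_sl_elt hMdet
  obtain ⟨g, hg⟩ : ∃ g, g = Q⁻¹ * s * Q := ⟨_, rfl⟩
  have hsE : act s (E0 E) = E0 E := by
    rw [hs]; funext i; fin_cases i <;> simp [slMap, E0, Matrix.mulVec, dotProduct, Fin.sum_univ_three]
  have hgz : act g z = z := by rw [hg, act_mul, act_mul, hQ, hsE, ← hQ, act_inv_act]
  have hgσ : mapG σ g = g := by
    obtain ⟨h, hh⟩ : ∃ h, h = mapG σ g := ⟨_, rfl⟩
    have hhz : act h z = z := by
      have h1 : act h (conjV σ z) = conjV σ z := by rw [hh, conjV_act, hgz]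
      rw [hσz, act_add, act_unit, act_smul, add_right_inj] at h1
      exact smul_right_injective (Fin 8 → E) (neg_ne_zero.2 one_ne_zero) h1
    have hgP : ∀ x, act g (P x) = P (M *ᵥ x) := fun x => by
      rw [hg]
      simp only [P]
      rw [act_mul, act_mul, act_act_inv, hs]
      congr 1
      funext i
      fin_cases i <;> simp [slMap, vA, Matrix.mulVec, dotProduct, Fin.sum_univ_three]
    obtain ⟨g₁, hg₁⟩ : ∃ g₁, g₁ = Q * g * Q⁻¹ := ⟨_, rfl⟩
    obtain ⟨h₁, hh₁⟩ : ∃ h₁, h₁ = Q * h * Q⁻¹ := ⟨_, rfl⟩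
    have hg1E : act g₁ (E0 E) = E0 E := by rw [hg₁, act_mul, act_mul, ← hQ, act_inv_act, hgz]
    have hh1E : act h₁ (E0 E) = E0 E := by rw [hh₁, act_mul, act_mul, ← hQ, act_inv_act, hhz]
    -- they agree on the conjugate space
    have hagree : ∀ y, act h (conjV σ (P y)) = act g (conjV σ (P y)) := by
      intro y
      have hl : act h (conjV σ (P y)) = conjV σ (P (M *ᵥ y)) := by rw [hh, conjV_act, hgP]
      rw [hl]
      obtain ⟨b₁, hb₁⟩ := hσP (M *ᵥ y)
      obtain ⟨b₀, hb₀⟩ := hσP y
      have hb₂ : act Q (act g (conjV σ (P y))) = vB (zB E (act g₁ (vB b₀))) := by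
        rw [← act_vB hg1E, ← hb₀, hg₁, act_mul, act_mul, act_inv_act]
      have key : ∀ x, polar (P (M *ᵥ x)) (act g (conjV σ (P y))) =
          polar (P (M *ᵥ x)) (conjV σ (P (M *ᵥ y))) := fun x => by
        rw [← hBil, hMB, hBil, ← hgP, polar_act]
      suffices hbe : b₁ = zB E (act g₁ (vB b₀)) by
        rw [← act_inv_act Q (conjV σ (P (M *ᵥ y))), hb₁, hbe, ← hb₂, act_inv_act]
      funext i
      have hx := key ((M⁻¹) *ᵥ Pi.single i 1)
      rw [Matrix.mulVec_mulVec, Matrix.mul_nonsing_inv _ (by rw [hMdet]; exact isUnit_one),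
        Matrix.one_mulVec, ← polar_act Q, ← polar_act Q (P (Pi.single i 1)) (conjV σ (P (M *ᵥ y))),
        hb₁, hb₂] at hx
      simp only [P, act_act_inv] at hx
      generalize zB E (act g₁ (vB b₀)) = bx at hx ⊢
      fin_cases i <;> simp [polar, vA, vB] at hx ⊢ <;> first | exact hx.symm | exact hx | exact (neg_inj.1 hx).symm | exact neg_inj.1 hx
    -- so the blocks agree
    have hspan : ∀ b : Fin 3 → E, ∃ y, act Q (conjV σ (P y)) = vB b := by
      let f : (Fin 3 → E) → (Fin 3 → E) := fun y => zB E (act Q (conjV σ (P y)))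
      have hf : Function.Injective f := by
        intro x y e
        obtain ⟨bx, hbx⟩ := hσP x
        obtain ⟨by', hby⟩ := hσP y
        have e' : act Q (conjV σ (P x)) = act Q (conjV σ (P y)) := by
          simp only [f, hbx, hby] at e
          have ez : ∀ v : Fin 3 → E, zB E (vB v) = v := fun v => by funext j; fin_cases j <;> rfl
          rw [ez, ez] at e
          rw [hbx, hby, e]
        have e2 : conjV σ (P x) = conjV σ (P y) := by
          rw [← act_inv_act Q (conjV σ (P x)), e', act_inv_act]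
        have e3 : vA x = vA y := by
          have : P x = P y := by rw [← hinvol (P x), e2, hinvol]
          rw [← act_act_inv Q (vA x), show act Q⁻¹ (vA x) = act Q⁻¹ (vA y) from this, act_act_inv]
        funext i
        fin_cases i
        · exact congrFun e3 1
        · exact congrFun e3 2
        · exact congrFun e3 3
      intro b
      obtain ⟨y, hy⟩ := (Finite.injective_iff_surjective.1 hf) b
      obtain ⟨c, hc⟩ := hσP y
      refine ⟨y, ?_⟩
      rw [hc]
      congr 1
      rw [← hy]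
      show c = zB E (act Q (conjV σ (P y)))
      rw [hc]; funext j; fin_cases j <;> rfl
    have hadj : (blockA h₁).adjugateᵀ = (blockA g₁).adjugateᵀ := by
      refine Matrix.ext_of_mulVec_single fun i => ?_
      obtain ⟨y, hy⟩ := hspan (Pi.single i 1)
      have e : act h₁ (vB (Pi.single i 1)) = act g₁ (vB (Pi.single i 1)) := by
        rw [← hy, hh₁, hg₁, act_mul, act_mul, act_mul, act_mul, act_inv_act, hagree]
      rw [act_eq_slMap hh1E, act_eq_slMap hg1E] at e
      have e' := congrArg (zB E) e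
      rw [zB_slMap, zB_slMap, show zB E (vB (Pi.single i (1 : E))) = Pi.single i 1 by
        funext j; fin_cases j <;> rfl] at e'
      exact e'
    have hblock : blockA h₁ = blockA g₁ := by
      have e := congrArg (fun X => (Xᵀ).adjugate) hadj
      simp only [Matrix.transpose_transpose] at e
      rwa [Matrix.adjugate_adjugate _ (by simp), Matrix.adjugate_adjugate _ (by simp),
        det_blockA hh1E, det_blockA hg1E, one_pow, one_smul, one_smul] at e
    have heq := stab_injective hh1E hg1E hblock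
    rw [hh₁, hg₁] at heq
    rw [← hh]
    exact mul_left_cancel (mul_right_cancel heq)
  obtain ⟨k, hk⟩ := exists_descend (algebraMap F E) σ hfix hgσ
  refine ⟨k, ?_⟩
  rw [← orderOf_injective (mapG (algebraMap F E)) (mapG_injective _) k, hk, hg]
  rw [show Q⁻¹ * s * Q = MulAut.conj Q⁻¹ s by simp, MulEquiv.orderOf_eq, orderOf_of_slMap hs]
  rw [← hg0]
  refine orderOf_eq_orderOf_iff.2 fun n => ?_
  have hpow : ∀ n : ℕ, M ^ n = Γm * G ^ n * Γi := by
    intro n
    induction n with
    | zero => rw [pow_zero, pow_zero, Matrix.mul_one, hAA]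
    | succ n ih =>
      rw [pow_succ, ih, pow_succ G, hM]
      simp only [Matrix.mul_assoc]
      rw [← Matrix.mul_assoc Γi Γm, mul_eq_one_comm.1 hAA, Matrix.one_mul]
  have hGn : ∀ n : ℕ, Cfsg.Agent.Classical.Unitary.mat (g0 ^ n) = G ^ n := by
    intro n
    induction n with
    | zero => rfl
    | succ n ih => rw [pow_succ, pow_succ, Cfsg.Agent.Classical.Unitary.mat_mul, ih, hG]
  rw [hpow]
  constructor
  · intro h
    have h' : G ^ n = 1 := by
      have := congrArg (fun X => Γi * X * Γm) h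
      simp only [Matrix.mul_one] at this
      rw [← Matrix.mul_assoc, ← Matrix.mul_assoc, mul_eq_one_comm.1 hAA, Matrix.one_mul, Matrix.mul_assoc,
        mul_eq_one_comm.1 hAA, Matrix.mul_one] at this
      exact this
    exact Subtype.ext (Subtype.ext ((hGn n).trans h'))
  · intro h
    rw [← hGn, h, Cfsg.Agent.Classical.Unitary.mat_one, Matrix.mul_one, hAA]

end Main

end Cfsg.Agent.G2Orders
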