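import Cfsg.Agent.Lib.G2Orders.Hom
import Cfsg.Agent.Lib.G2Orders.Stab

/-!
Elements of small order in the automorphisms of the split octonions, from integer certificates.
-/

set_option autoImplicit false
set_option linter.unusedSectionVars false

namespace Cfsg.Agent.G2Orders

open Cfsg.Lie Cfsg.Agent.Chevalley.Natural

/-- The terms of a word in the root elements with parameter one. -/
def wordT (L : List ℕ) : List (Term (Fin 8)) := prodT (L.map fun r => xT r 1 0 0)

/-- The terms of a power of a word. -/
def powT (L : List ℕ) (n : ℕ) : List (Term (Fin 8)) := prodT (List.replicate n (wordT L))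

/-- The entries of a list of terms vanish modulo a number. -/
def zeroMod (p : ℕ) (L : List (Term (Fin 8))) : Bool :=
  (norm L).all fun a => decide ((p : ℤ) ∣ a.z)

/-- One entry of a list of terms does not vanish modulo a number. -/
def entryMod (p : ℕ) (L : List (Term (Fin 8))) : Bool :=
  idx8.any fun x => idx8.any fun y =>
    !decide ((p : ℤ) ∣ ((L.filter fun a : Term (Fin 8) => decide (a.row = x ∧ a.col = y)).map fun a => a.z).sum)

/-- A word whose order is exactly a number modulo a prime. -/
def wordOk (p : ℕ) (L : List ℕ) (n : ℕ) (bad : List ℕ) : Bool :=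
  L.all (fun r => decide (r < 12)) &&
    (zeroMod p (powT L n ++ negL (oneL idx8)) &&
      bad.all fun k => entryMod p (powT L k ++ negL (oneL idx8)))

variable {F : Type*} [Field F] {p : ℕ} [CharP F p]

theorem toM_word {L : List ℕ} (hL : ∀ r ∈ L, r < 12) :
    toM ((L.map fun r => xr r (1 : F)).prod) = ev (1 : F) 1 (wordT L) := by
  rw [toM_list_prod, wordT, ev_prodT, List.map_map, List.map_map]
  congr 1
  refine List.map_congr_left fun r hr => ?_
  show toM (xr r 1) = ev 1 1 (xT r 1 0 0)
  rw [toM_xr (hL r hr), ev_xT]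
  simp

theorem toM_word_pow {L : List ℕ} (hL : ∀ r ∈ L, r < 12) (n : ℕ) :
    toM (((L.map fun r => xr r (1 : F)).prod) ^ n) = ev (1 : F) 1 (powT L n) := by
  rw [powT, ev_prodT, List.map_replicate, List.prod_replicate, ← toM_word hL]
  induction n with
  | zero => rfl
  | succ n ih => rw [pow_succ, pow_succ, toM_mul, ih]

theorem ev_zeroMod {L : List (Term (Fin 8))} (h : zeroMod p L = true) : ev (1 : F) 1 L = 0 := by
  rw [← ev_norm]
  refine List.sum_eq_zero fun x hx => ?_
  obtain ⟨a, ha, rfl⟩ := List.mem_map.1 hx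
  have := List.all_eq_true.1 h a ha
  rw [decide_eq_true_eq, ← CharP.intCast_eq_zero_iff F] at this
  simp [term1, this]

theorem ev_entryMod {L : List (Term (Fin 8))} (h : entryMod p L = true) : ev (1 : F) 1 L ≠ 0 := by
  obtain ⟨x, -, hx⟩ := List.any_eq_true.1 h
  obtain ⟨y, -, hy⟩ := List.any_eq_true.1 hx
  rw [Bool.not_eq_true', decide_eq_false_iff_not, ← CharP.intCast_eq_zero_iff F] at hy
  intro h0
  apply hy
  have he : ∀ M : List (Term (Fin 8)), ev (1 : F) 1 M x y =
      ((((M.filter fun a : Term (Fin 8) => decide (a.row = x ∧ a.col = y)).map fun a => a.z).sum : ℤ) : F) := by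
    intro M
    induction M with
    | nil => simp [ev]
    | cons a M ih =>
      rw [ev_cons, Matrix.add_apply, ih, List.filter_cons]
      by_cases ha : a.row = x ∧ a.col = y
      · rw [if_pos (decide_eq_true ha)]
        simp [term1, ha.1, ha.2]
      · rw [if_neg (by simpa using ha)]
        simp [term1, Matrix.single_apply, ha]
  rw [← he, h0]
  rfl

theorem exists_order_of_word {L : List ℕ} {n : ℕ} {bad : List ℕ} (hn : 0 < n)
    (hok : wordOk p L n bad = true) (hbad : ∀ k, k ∣ n → k = n ∨ ∃ b ∈ bad, k ∣ b) :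
    ∃ g : Cfsg.Lie.G2 F, orderOf g = n := by
  rw [wordOk, Bool.and_eq_true, Bool.and_eq_true, List.all_eq_true, List.all_eq_true] at hok
  obtain ⟨hL', hz, hb⟩ := hok
  have hL : ∀ r ∈ L, r < 12 := fun r hr => of_decide_eq_true (hL' r hr)
  refine ⟨(L.map fun r => xr r (1 : F)).prod, ?_⟩
  have hev : ∀ k, ev (1 : F) 1 (powT L k ++ negL (oneL idx8)) =
      toM (((L.map fun r => xr r (1 : F)).prod) ^ k) - 1 := fun k => by
    rw [ev_append, ev_negL, ev_idx8, toM_word_pow hL, sub_eq_add_neg]
  have h1 : ((L.map fun r => xr r (1 : F)).prod) ^ n = 1 := toM_injective (by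
    have := ev_zeroMod (F := F) hz
    rw [hev, sub_eq_zero] at this
    rw [this, toM_one])
  rcases hbad _ (orderOf_dvd_of_pow_eq_one h1) with h | ⟨b, hb', hdvd⟩
  · exact h
  · exfalso
    apply ev_entryMod (F := F) (hb b hb')
    rw [hev, orderOf_dvd_iff_pow_eq_one.1 hdvd, toM_one, sub_self]

theorem ok_eight : wordOk 2 [7, 6] 8 [4] = true := by decide +kernel
theorem ok_twelve : wordOk 2 [8, 9, 2] 12 [4, 6] = true := by decide +kernel
theorem ok_nine : wordOk 3 [7, 6] 9 [3] = true := by decide +kernel
theorem ok_twentyfive : wordOk 5 [7, 6] 25 [5] = true := by decide +kernel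

theorem exists_order_eight_twelve (F : Type*) [Field F] [CharP F 2] :
    (∃ g : Cfsg.Lie.G2 F, orderOf g = 8) ∧ ∃ g : Cfsg.Lie.G2 F, orderOf g = 12 := by
  refine ⟨exists_order_of_word (p := 2) (by norm_num) ok_eight fun k hk => ?_,
    exists_order_of_word (p := 2) (by norm_num) ok_twelve fun k hk => ?_⟩
  · have := Nat.le_of_dvd (by norm_num) hk
    interval_cases k <;> first | omega | (simp <;> norm_num)
  · have := Nat.le_of_dvd (by norm_num) hk
    interval_cases k <;> first | omega | (simp <;> norm_num)

theorem exists_order_prime_sq (F : Type*) [Field F] (p : ℕ) [CharP F p] (hp : p = 3 ∨ p = 5) :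
    ∃ g : Cfsg.Lie.G2 F, orderOf g = p ^ 2 := by
  rcases hp with rfl | rfl
  · refine exists_order_of_word (p := 3) (by norm_num) ok_nine fun k hk => ?_
    have := Nat.le_of_dvd (by norm_num) hk
    interval_cases k <;> first | omega | (simp <;> norm_num)
  · refine exists_order_of_word (p := 5) (by norm_num) ok_twentyfive fun k hk => ?_
    have := Nat.le_of_dvd (by norm_num) hk
    interval_cases k <;> first | omega | (simp <;> norm_num)

end Cfsg.Agent.G2Orders
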