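import Cfsg.Agent.Lib.G2Orders.Iso
import Cfsg.Agent.Lib.G2Orders.ExistSU
import Cfsg.Agent.Lib.G2Orders.Small

/-!
The maximal element orders of the Chevalley group of type G2.
-/

set_option autoImplicit false
set_option linter.unusedSectionVars false

namespace Cfsg.Agent.G2Orders

open Cfsg.Lie

variable {F : Type*} [Field F] [Fintype F]

theorem range_orderOf (hq : 3 ≤ Fintype.card F) :
    Set.range (orderOf : chevG2.group F → ℕ) = Set.range (orderOf : Cfsg.Lie.G2 F → ℕ) := by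
  obtain ⟨e, -⟩ := nonempty_iso F hq
  ext n
  constructor
  · rintro ⟨g, rfl⟩; exact ⟨e g, e.orderOf_eq g⟩
  · rintro ⟨g, rfl⟩; exact ⟨e.symm g, e.symm.orderOf_eq g⟩

theorem maximal_eq {R S : Set ℕ} (hsub : S ⊆ R) (hdiv : ∀ n ∈ R, ∃ m ∈ S, n ∣ m)
    (hanti : ∀ x ∈ S, ∀ y ∈ S, x ∣ y → x = y) :
    {n | n ∈ R ∧ ∀ m ∈ R, n ∣ m → m = n} = S := by
  ext n
  constructor
  · rintro ⟨hn, hmax⟩
    obtain ⟨m, hm, hnm⟩ := hdiv n hn
    rwa [← hmax m (hsub hm) hnm]
  · intro hn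
    refine ⟨hsub hn, fun m hm hnm => ?_⟩
    obtain ⟨k, hk, hmk⟩ := hdiv m hm
    rw [← hanti n hn k hk (hnm.trans hmk)] at hmk
    exact Nat.dvd_antisymm hmk hnm

theorem not_dvd_card_minus (p : ℕ) [Fact p.Prime] [CharP F p] :
    ¬ p ∣ Fintype.card F - 1 ∧ ¬ p ∣ Fintype.card F + 1 ∧ ¬ p ∣ Fintype.card F ^ 2 - 1 ∧
      ¬ p ∣ Fintype.card F ^ 2 + Fintype.card F + 1 ∧ ¬ p ∣ Fintype.card F ^ 2 - Fintype.card F + 1 := by
  have hp := (Fact.out : p.Prime)
  obtain ⟨n, -, hq⟩ := FiniteField.card F p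
  have hd : p ∣ Fintype.card F := hq ▸ dvd_pow_self p n.ne_zero
  have hd2 : p ∣ Fintype.card F ^ 2 := hd.trans (dvd_pow_self _ two_ne_zero)
  have key : ∀ {x y : ℕ}, p ∣ x → p ∣ y → x = y + 1 → False := fun {x y} hx hy e => by
    have h := Nat.dvd_sub hx hy
    rw [e, Nat.add_sub_cancel_left] at h
    exact hp.one_lt.ne' (Nat.dvd_one.1 h)
  have h1 : 1 < Fintype.card F := Fintype.one_lt_card
  have h2 : 1 ≤ Fintype.card F ^ 2 := Nat.one_le_pow _ _ (by omega)
  refine ⟨fun h => key hd h (by omega), fun h => key h hd (by omega), fun h => key hd2 h (by omega),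
    fun h => key h (dvd_add hd2 hd) (by omega), fun h => key h (Nat.dvd_sub hd2 hd) (by omega)⟩

theorem odd_main (p a : ℕ) (hp : p.Prime) (hp2 : p ≠ 2) (ha : 1 ≤ a)
    (hF : Fintype.card F = p ^ a) (hq5 : 5 ≤ Fintype.card F) :
    {n : ℕ | n ∈ Set.range (orderOf : chevG2.group F → ℕ) ∧
        ∀ m ∈ Set.range (orderOf : chevG2.group F → ℕ), n ∣ m → m = n} =
      ({p * (p ^ a + 1), p * (p ^ a - 1), p ^ (2 * a) - 1, p ^ (2 * a) + p ^ a + 1,
        p ^ (2 * a) - p ^ a + 1} : Set ℕ) ∪ (if p = 3 ∨ p = 5 then ({p ^ 2} : Set ℕ) else ∅) := by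
  haveI : Fact p.Prime := ⟨hp⟩
  haveI : CharP F p := charP_of_card_eq_prime_pow hF
  rw [range_orderOf (by omega), pow_mul']
  rw [← hF]
  obtain ⟨nB, nA, nC, nD, nE⟩ := not_dvd_card_minus (F := F) p
  have hodd : Odd (Fintype.card F) := hF ▸ (hp.odd_of_ne_two hp2).pow
  have hpq : p ≤ Fintype.card F := hF ▸ Nat.le_self_pow (by omega) p
  obtain ⟨k, hk⟩ := hodd
  generalize hqdef : Fintype.card F = q at *
  have hsq : 5 * q ≤ q ^ 2 := by rw [sq]; exact Nat.mul_le_mul_right _ hq5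
  have h3p : 3 ≤ p := by have := hp.two_le; omega
  refine maximal_eq ?_ ?_ ?_
  · rintro n (hn | hn)
    · simp only [Set.mem_insert_iff, Set.mem_singleton_iff] at hn
      rcases hn with rfl | rfl | rfl | rfl | rfl
      · obtain ⟨g, hg⟩ := (exists_order_p_mul_pred_succ (F := F) (p := p)).2; exact ⟨g, hqdef ▸ hg⟩
      · obtain ⟨g, hg⟩ := (exists_order_p_mul_pred_succ (F := F) (p := p)).1; exact ⟨g, hqdef ▸ hg⟩
      · obtain ⟨g, hg⟩ := exists_order_sq_sub_one (F := F); exact ⟨g, hqdef ▸ hg⟩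
      · obtain ⟨g, hg⟩ := exists_order_quad_plus (F := F); exact ⟨g, hqdef ▸ hg⟩
      · obtain ⟨g, hg⟩ := exists_order_quad_minus (F := F) (by omega); exact ⟨g, hqdef ▸ hg⟩
    · split_ifs at hn with h
      · rw [Set.mem_singleton_iff] at hn
        subst hn
        exact exists_order_prime_sq F p h
      · exact absurd hn (Set.notMem_empty n)
  · rintro n ⟨g, rfl⟩
    rcases order_cases (p := p) g with h | (h | h) | ⟨h, -⟩ | (h | h | h) <;>
      (try rw [hqdef] at h)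
    · rw [if_neg hp2] at h
      by_cases h35 : p = 3 ∨ p = 5
      · rw [if_pos h35] at h
        exact ⟨p ^ 2, Or.inr (by rw [if_pos h35]; rfl), h⟩
      · rw [if_neg h35, pow_one] at h
        exact ⟨p * (q + 1), Or.inl (by simp), h.trans (dvd_mul_right p (q + 1))⟩
    · exact ⟨_, Or.inl (by simp), h⟩
    · exact ⟨_, Or.inl (by simp), h⟩
    · exact absurd h hp2
    · exact ⟨_, Or.inl (by simp), h⟩
    · exact ⟨_, Or.inl (by simp), h⟩
    · exact ⟨_, Or.inl (by simp), h⟩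
  · have hA : p ∣ p * (q + 1) := dvd_mul_right _ _
    have hB : p ∣ p * (q - 1) := dvd_mul_right _ _
    have hP : p ∣ p ^ 2 := dvd_pow_self p two_ne_zero
    have hcop : ∀ x m, ¬ p ∣ x → x ∣ p * m → x ∣ m := fun x m hx h =>
      (Nat.Coprime.symm ((Nat.Prime.coprime_iff_not_dvd hp).2 hx)).dvd_of_dvd_mul_left h
    have hbig : ∀ x, ¬ p ∣ x → q + 1 < x →
        ¬ x ∣ p * (q + 1) ∧ ¬ x ∣ p * (q - 1) ∧ ¬ x ∣ p ^ 2 := fun x hx hlt =>
      ⟨fun h => absurd (Nat.le_of_dvd (by omega) (hcop _ _ hx h)) (by omega),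
        fun h => absurd (Nat.le_of_dvd (by omega) (hcop _ _ hx h)) (by omega),
        fun h => by
          rw [pow_two] at h
          have := Nat.le_of_dvd Nat.one_pos ((Nat.mul_one p).symm ▸ hcop _ _ hx h |> hcop x 1 hx)
          omega⟩
    obtain ⟨cA, cB, cP⟩ := hbig _ nC (by omega)
    obtain ⟨dA, dB, dP⟩ := hbig _ nD (by omega)
    obtain ⟨eA, eB, eP⟩ := hbig _ nE (by omega)
    have ab : ¬ p * (q + 1) ∣ p * (q - 1) := fun h =>
      absurd (Nat.le_of_dvd (by omega) ((Nat.mul_dvd_mul_iff_left hp.pos).1 h)) (by omega)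
    have ba : ¬ p * (q - 1) ∣ p * (q + 1) := fun h => by
      have h' := Nat.dvd_sub ((Nat.mul_dvd_mul_iff_left hp.pos).1 h) (dvd_refl (q - 1))
      have := Nat.le_of_dvd (by omega) h'
      omega
    have aP : ¬ p * (q + 1) ∣ p ^ 2 := fun h => by
      rw [pow_two] at h
      have := Nat.le_of_dvd hp.pos ((Nat.mul_dvd_mul_iff_left hp.pos).1 h)
      omega
    have bP : ¬ p * (q - 1) ∣ p ^ 2 := fun h => by
      rw [pow_two] at h
      rcases (Nat.dvd_prime hp).1 ((Nat.mul_dvd_mul_iff_left hp.pos).1 h) with e | e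
      · omega
      · exact nB (e ▸ dvd_refl p)
    have Pa : ¬ p ^ 2 ∣ p * (q + 1) := fun h =>
      nA ((Nat.mul_dvd_mul_iff_left hp.pos).1 (by rwa [← pow_two]))
    have Pb : ¬ p ^ 2 ∣ p * (q - 1) := fun h =>
      nB ((Nat.mul_dvd_mul_iff_left hp.pos).1 (by rwa [← pow_two]))
    have cd : ¬ q ^ 2 - 1 ∣ q ^ 2 + q + 1 := fun h => by
      have := Nat.le_of_dvd (by omega) (Nat.dvd_sub h (dvd_refl (q ^ 2 - 1)))
      omega
    have dc : ¬ q ^ 2 + q + 1 ∣ q ^ 2 - 1 := fun h => by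
      have := Nat.le_of_dvd (by omega) h
      omega
    have ce : ¬ q ^ 2 - 1 ∣ q ^ 2 - q + 1 := fun h => by
      have := Nat.le_of_dvd (by omega) h
      omega
    have ec : ¬ q ^ 2 - q + 1 ∣ q ^ 2 - 1 := fun h => by
      have := Nat.le_of_dvd (by omega) (Nat.dvd_sub h (dvd_refl (q ^ 2 - q + 1)))
      omega
    have de : ¬ q ^ 2 + q + 1 ∣ q ^ 2 - q + 1 := fun h => by
      have := Nat.le_of_dvd (by omega) h
      omega
    have ed : ¬ q ^ 2 - q + 1 ∣ q ^ 2 + q + 1 := fun h => by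
      have := Nat.le_of_dvd (by omega) (Nat.dvd_sub h (dvd_refl (q ^ 2 - q + 1)))
      omega
    intro x hx y hy hxy
    have hxs : x = p * (q + 1) ∨ x = p * (q - 1) ∨ x = q ^ 2 - 1 ∨ x = q ^ 2 + q + 1 ∨
        x = q ^ 2 - q + 1 ∨ x = p ^ 2 := by
      split_ifs at hx <;> simp at hx <;> tauto
    have hys : y = p * (q + 1) ∨ y = p * (q - 1) ∨ y = q ^ 2 - 1 ∨ y = q ^ 2 + q + 1 ∨
        y = q ^ 2 - q + 1 ∨ y = p ^ 2 := by
      split_ifs at hy <;> simp at hy <;> tauto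
    rcases hxs with rfl | rfl | rfl | rfl | rfl | rfl <;>
      rcases hys with rfl | rfl | rfl | rfl | rfl | rfl <;>
      first
        | rfl
        | exact absurd hxy ab | exact absurd hxy ba | exact absurd hxy aP | exact absurd hxy bP
        | exact absurd hxy Pa | exact absurd hxy Pb | exact absurd hxy cA | exact absurd hxy cB
        | exact absurd hxy cP | exact absurd hxy dA | exact absurd hxy dB | exact absurd hxy dP
        | exact absurd hxy eA | exact absurd hxy eB | exact absurd hxy eP | exact absurd hxy cd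
        | exact absurd hxy dc | exact absurd hxy ce | exact absurd hxy ec | exact absurd hxy de
        | exact absurd hxy ed
        | exact absurd (hA.trans hxy) nC | exact absurd (hA.trans hxy) nD | exact absurd (hA.trans hxy) nE
        | exact absurd (hB.trans hxy) nC | exact absurd (hB.trans hxy) nD | exact absurd (hB.trans hxy) nE
        | exact absurd (hP.trans hxy) nC | exact absurd (hP.trans hxy) nD | exact absurd (hP.trans hxy) nE

theorem even_main (a : ℕ) (ha : 2 ≤ a) (hF : Fintype.card F = 2 ^ a) :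
    {n : ℕ | n ∈ Set.range (orderOf : chevG2.group F → ℕ) ∧
        ∀ m ∈ Set.range (orderOf : chevG2.group F → ℕ), n ∣ m → m = n} ⊆
      ({8, 12, 2 * (2 ^ a + 1), 2 * (2 ^ a - 1), 2 ^ (2 * a) - 1, 2 ^ (2 * a) + 2 ^ a + 1,
        2 ^ (2 * a) - 2 ^ a + 1} : Set ℕ) ∧
    ({8, 12, 2 * (2 ^ a + 1), 2 * (2 ^ a - 1), 2 ^ (2 * a) - 1, 2 ^ (2 * a) + 2 ^ a + 1,
        2 ^ (2 * a) - 2 ^ a + 1} : Set ℕ) ⊆ Set.range (orderOf : chevG2.group F → ℕ) := by
  haveI : Fact (Nat.Prime 2) := ⟨Nat.prime_two⟩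
  haveI : CharP F 2 := charP_of_card_eq_prime_pow hF
  have hq : 3 ≤ Fintype.card F := by
    rw [hF]
    exact le_trans (by norm_num) (Nat.pow_le_pow_right (by norm_num : 1 ≤ 2) ha)
  rw [range_orderOf hq, pow_mul', ← hF]
  have hS : ({8, 12, 2 * (Fintype.card F + 1), 2 * (Fintype.card F - 1), Fintype.card F ^ 2 - 1,
      Fintype.card F ^ 2 + Fintype.card F + 1, Fintype.card F ^ 2 - Fintype.card F + 1} : Set ℕ) ⊆
      Set.range (orderOf : Cfsg.Lie.G2 F → ℕ) := by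
    intro n hn
    simp only [Set.mem_insert_iff, Set.mem_singleton_iff] at hn
    rcases hn with rfl | rfl | rfl | rfl | rfl | rfl | rfl
    · exact (exists_order_eight_twelve F).1
    · exact (exists_order_eight_twelve F).2
    · exact (exists_order_p_mul_pred_succ (F := F) (p := 2)).2
    · exact (exists_order_p_mul_pred_succ (F := F) (p := 2)).1
    · exact exists_order_sq_sub_one
    · exact exists_order_quad_plus
    · exact exists_order_quad_minus hq
  refine ⟨?_, hS⟩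
  rintro n ⟨⟨g, rfl⟩, hmax⟩
  suffices h : ∃ m ∈ ({8, 12, 2 * (Fintype.card F + 1), 2 * (Fintype.card F - 1), Fintype.card F ^ 2 - 1,
      Fintype.card F ^ 2 + Fintype.card F + 1, Fintype.card F ^ 2 - Fintype.card F + 1} : Set ℕ),
      orderOf g ∣ m by
    obtain ⟨m, hm, hd⟩ := h
    rwa [← hmax m (hS hm) hd]
  rcases order_cases (p := 2) g with h | (h | h) | ⟨-, h⟩ | (h | h | h)
  · exact ⟨8, by simp, by simpa using h⟩
  · exact ⟨_, by simp, h⟩
  · exact ⟨_, by simp, h⟩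
  · exact ⟨12, by simp, h⟩
  · exact ⟨_, by simp, h⟩
  · exact ⟨_, by simp, h⟩
  · exact ⟨_, by simp, h⟩

end Cfsg.Agent.G2Orders
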