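import Cfsg.Agent.Lib.G2Orders.Transitive

/-!
Semisimple automorphisms of the split octonions over an algebraically closed field are conjugate to
diagonal ones.
-/

set_option autoImplicit false
set_option linter.unusedSectionVars false
set_option linter.unusedSimpArgs false

namespace Cfsg.Agent.G2Orders

open Matrix Cfsg.Lie Cfsg.Agent.Classical.NormalCover.GTwo

variable {K : Type*} [Field K]

local notation "O" => (Fin 8 → K)

/-- An eigenbasis of an endomorphism of finite order prime to the characteristic. -/
theorem exists_eigenbasis [IsAlgClosed K] {n : ℕ} {f : Module.End K (Fin n → K)} {m : ℕ}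
    (hm : (m : K) ≠ 0) (hf : f ^ m = 1) :
    ∃ (b : Module.Basis (Fin n) K (Fin n → K)) (μ : Fin n → K), ∀ i, f (b i) = μ i • b i := by
  have hss : f.IsSemisimple := by
    refine Module.End.isSemisimple_of_squarefree_aeval_eq_zero
      (Polynomial.X_pow_sub_one_separable_iff.2 hm).squarefree (by simp [hf])
  have htop : ⨆ μ : K, f.eigenspace μ = ⊤ := by
    have h := Module.End.iSup_maxGenEigenspace_eq_top f
    simpa only [hss.isFinitelySemisimple.maxGenEigenspace_eq_eigenspace] using h
  have hspan : Submodule.span K {v : Fin n → K | ∃ μ : K, f v = μ • v} = ⊤ := by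
    refine top_le_iff.1 (htop ▸ iSup_le fun μ v hv => Submodule.subset_span ⟨μ, ?_⟩)
    exact Module.End.mem_eigenspace_iff.1 hv
  obtain ⟨B, hBs, hBspan, hBli⟩ := exists_linearIndependent K {v : Fin n → K | ∃ μ : K, f v = μ • v}
  let b0 : Module.Basis B K (Fin n → K) := Module.Basis.mk hBli (by
    rw [Subtype.range_coe_subtype, Set.setOf_mem_eq, hBspan, hspan])
  haveI : Fintype B := FiniteDimensional.fintypeBasisIndex b0
  have hcard : Fintype.card B = n := by
    rw [← Module.finrank_eq_card_basis b0, Module.finrank_fin_fun]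
  let b := b0.reindex (Fintype.equivFinOfCardEq hcard)
  refine ⟨b, fun i => (hBs ((Fintype.equivFinOfCardEq hcard).symm i).2).choose, fun i => ?_⟩
  have := (hBs ((Fintype.equivFinOfCardEq hcard).symm i).2).choose_spec
  simpa [b, b0] using this

/-- A square matrix of finite order prime to the characteristic is diagonalisable in the special
linear group. -/
theorem exists_diag [IsAlgClosed K] {M : Matrix (Fin 3) (Fin 3) K} {m : ℕ} (hm : (m : K) ≠ 0)
    (hM : M ^ m = 1) : ∃ (P : Matrix (Fin 3) (Fin 3) K) (μ : Fin 3 → K),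
      P.det = 1 ∧ P * M = Matrix.diagonal μ * P := by
  obtain ⟨b, μ, hb⟩ := exists_eigenbasis (f := Matrix.toLinAlgEquiv' M) hm
    (by rw [← map_pow, hM, map_one])
  let Q : Matrix (Fin 3) (Fin 3) K := Matrix.of fun i j => b j i
  have hQ : M * Q = Q * Matrix.diagonal μ := by
    ext i j
    rw [Matrix.mul_diagonal]
    have := congrFun (hb j) i
    simp [Q, Matrix.mul_apply, Matrix.toLinAlgEquiv'_apply, Matrix.mulVec, dotProduct] at this ⊢
    rw [this]; ring
  have hdet : Q.det ≠ 0 := by
    have h : IsUnit Q := by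
      rw [← Matrix.linearIndependent_cols_iff_isUnit]
      exact b.linearIndependent
    exact ((Matrix.isUnit_iff_isUnit_det Q).1 h).ne_zero
  refine ⟨Matrix.diagonal ![Q.det, 1, 1] * Q⁻¹, μ, ?_, ?_⟩
  · rw [Matrix.det_mul, Matrix.det_diagonal, Matrix.det_nonsing_inv, Ring.inverse_eq_inv',
      Fin.prod_univ_three]
    simp [hdet]
  · have h1 : Q⁻¹ * M = Matrix.diagonal μ * Q⁻¹ := by
      calc Q⁻¹ * M = Q⁻¹ * (M * Q) * Q⁻¹ := by
            rw [Matrix.mul_assoc, Matrix.mul_assoc, Matrix.mul_nonsing_inv _ (Ne.isUnit hdet),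
              Matrix.mul_one]
        _ = _ := by
            rw [hQ, ← Matrix.mul_assoc Q⁻¹, Matrix.nonsing_inv_mul _ (Ne.isUnit hdet), Matrix.one_mul]
    rw [Matrix.mul_assoc, h1, ← Matrix.mul_assoc, ← Matrix.mul_assoc, Matrix.diagonal_mul_diagonal,
      Matrix.diagonal_mul_diagonal]
    congr 2
    funext i
    ring

theorem act_pow (g : Cfsg.Lie.G2 K) (x : O) : ∀ k : ℕ,
    act (g ^ k) x = (fun y => act g y)^[k] x
  | 0 => act_id x
  | k + 1 => by rw [pow_succ', act_mul, act_pow g x k, Function.iterate_succ_apply']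

theorem act_sum {ι : Type*} (s : Finset ι) (g : Cfsg.Lie.G2 K) (f : ι → O) :
    act g (∑ i ∈ s, f i) = ∑ i ∈ s, act g (f i) := Matrix.mulVec_sum _ _ _

theorem polar_smul (c : K) (x y : O) : polar x (c • y) = c * polar x y := by
  simp [polar]; ring

theorem polar_sum {ι : Type*} (s : Finset ι) (x : O) (f : ι → O) :
    polar x (∑ i ∈ s, f i) = ∑ i ∈ s, polar x (f i) :=
  map_sum ((polarB : LinearMap.BilinForm K O) x) f s

theorem tr_sum {ι : Type*} (s : Finset ι) (f : ι → O) : tr (∑ i ∈ s, f i) = ∑ i ∈ s, tr (f i) := by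
  simp [tr, Finset.sum_add_distrib]

section Average

variable {s : Cfsg.Lie.G2 K} {m : ℕ} (hm : (m : K) ≠ 0) (hs : s ^ m = 1)
include hm hs

theorem exists_average (x : O) :
    ∃ y : O, act s y = y ∧ tr y = tr x ∧ ∀ f, act s f = f → polar f y = polar f x := by
  refine ⟨(m : K)⁻¹ • ∑ i ∈ Finset.range m, act (s ^ i) x, ?_, ?_, fun f hf => ?_⟩
  · rw [act_smul, act_sum]
    congr 1
    simp only [← act_mul, ← pow_succ']
    have h1 := Finset.sum_range_succ (fun i => act (s ^ i) x) m
    rw [Finset.sum_range_succ'] at h1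
    simp only [pow_zero, hs] at h1
    exact add_right_cancel h1
  · rw [tr_smul, tr_sum, Finset.sum_congr rfl fun i _ => (tr_nrm_act (s ^ i) x).1, Finset.sum_const,
      Finset.card_range, nsmul_eq_mul, inv_mul_cancel_left₀ hm]
  · have hfi : ∀ i : ℕ, act (s ^ i) f = f := by
      intro i
      induction i with
      | zero => exact act_id f
      | succ i ih => rw [pow_succ', act_mul, ih, hf]
    have e : ∀ i : ℕ, polar f (act (s ^ i) x) = polar f x := fun i => by
      conv_lhs => rw [← hfi i, polar_act]
    rw [polar_smul, polar_sum, Finset.sum_congr rfl fun i _ => e i, Finset.sum_const,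
      Finset.card_range, nsmul_eq_mul, inv_mul_cancel_left₀ hm]

/-- A fixed vector of trace zero other than zero, in odd characteristic. -/
theorem exists_fixed_trace_zero [IsAlgClosed K] (h2 : (2 : K) ≠ 0) :
    ∃ f : O, f ≠ 0 ∧ tr f = 0 ∧ act s f = f := by
  obtain ⟨b, μ, hb⟩ := exists_eigenbasis
    (f := Matrix.toLinAlgEquiv' (toM s)) hm (by
      rw [← map_pow]
      have : toM (s ^ m) = toM s ^ m := by
        clear hs hm
        induction m with
        | zero => rfl
        | succ m ih => rw [pow_succ, pow_succ, toM_mul, ih]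
      rw [← this, hs, toM_one, map_one])
  have hb' : ∀ i, act s (b i) = μ i • b i := hb
  have hz : ∀ x y : O, tr x = 0 → tr y = 0 →
      zornMul x y + zornMul y x = -(polar x y) • unit K := by
    intro x y hx hy
    simp only [tr] at hx hy
    funext i
    fin_cases i <;>
      simp [zornMul, polar, unit, dot3, cross3]
    · linear_combination y 0 * hx + x 0 * hy
    · linear_combination x 1 * hy + y 1 * hx
    · linear_combination x 2 * hy + y 2 * hx
    · linear_combination x 3 * hy + y 3 * hx
    · linear_combination x 4 * hy + y 4 * hx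
    · linear_combination x 5 * hy + y 5 * hx
    · linear_combination x 6 * hy + y 6 * hx
    · linear_combination y 7 * hx + x 7 * hy
  have htr : ∀ x y : O, tr (zornMul x y - zornMul y x) = 0 := fun x y => by
    simp [tr, zornMul, dot3, cross3]; ring
  by_contra hcon
  push Not at hcon
  -- vectors of trace zero with eigenvalue one vanish
  have hone : ∀ f : O, tr f = 0 → act s f = f → f = 0 := fun f hf hsf => by
    by_contra hne
    exact hcon f hne hf hsf
  -- every vector of trace zero is negated
  have hneg : ∀ x : O, tr x = 0 → act s x = -x := by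
    have hall : ∀ i, μ i = 1 ∨ μ i = -1 := by
      intro i
      by_contra hi
      push Not at hi
      have hti : tr (b i) = 0 := by
        have h1 := (tr_nrm_act s (b i)).1
        rw [hb', tr_smul] at h1
        by_contra h
        exact hi.1 (mul_right_cancel₀ h (h1.trans (one_mul _).symm))
      have hni : nrm (b i) = 0 := by
        have h1 := (tr_nrm_act s (b i)).2
        rw [hb', show nrm (μ i • b i) = μ i * μ i * nrm (b i) by simp [nrm]; ring] at h1
        by_contra h
        rcases mul_self_eq_one_iff.1 (mul_right_cancel₀ h (h1.trans (one_mul _).symm)) with e | e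
        exacts [hi.1 e, hi.2 e]
      obtain ⟨j, hj⟩ : ∃ j, polar (b i) (b j) ≠ 0 := by
        by_contra h
        push Not at h
        refine b.ne_zero i (polarB_nondeg.1 (b i) fun y => ?_)
        have : (polarB : LinearMap.BilinForm K O) (b i) = 0 := b.ext fun j => h j
        rw [this]; rfl
      have hprod : μ i * μ j = 1 := by
        have h1 := polar_act s (b i) (b j)
        rw [hb', hb', show polar (μ i • b i) (μ j • b j) = μ i * μ j * polar (b i) (b j) by
          simp [polar]; ring] at h1
        exact mul_right_cancel₀ hj (h1.trans (one_mul _).symm)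
      have htj : tr (b j) = 0 := by
        have h1 := (tr_nrm_act s (b j)).1
        rw [hb', tr_smul] at h1
        by_contra h
        refine hi.1 ?_
        rw [mul_right_cancel₀ h (h1.trans (one_mul _).symm), mul_one] at hprod
        exact hprod
      have hfix : act s (zornMul (b i) (b j) - zornMul (b j) (b i)) =
          zornMul (b i) (b j) - zornMul (b j) (b i) := by
        rw [sub_eq_add_neg, act_add, ← neg_one_smul K (zornMul (b j) (b i)), act_smul, act_zornMul,
          act_zornMul, hb', hb']
        have e : ∀ (p q : K) (x y : O), zornMul (p • x) (q • y) = (p * q) • zornMul x y := by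
          intro p q x y
          funext k; fin_cases k <;> simp [zornMul, dot3, cross3] <;> ring
        rw [e, e, mul_comm (μ j), hprod, one_smul, one_smul]
      have h0 := hone _ (htr _ _) hfix
      have hp := hz _ _ hti htj
      rw [← sub_eq_zero.1 h0, ← two_smul K] at hp
      have hxx : zornMul (b i) (zornMul (b i) (b j)) = 0 := by
        have h : ∀ x y : O, tr x = 0 → zornMul x (zornMul x y) = -(nrm x) • y := by
          intro x y hx
          simp only [tr] at hx
          have e : x 7 = -x 0 := by linear_combination hx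
          funext k
          fin_cases k <;> simp [zornMul, nrm, dot3, cross3, e] <;> ring
        rw [h _ _ hti, hni, neg_zero, zero_smul]
      have hc : zornMul (b i) (b j) = ((2 : K)⁻¹ * -polar (b i) (b j)) • unit K := by
        rw [← smul_smul, ← hp, inv_smul_smul₀ h2]
      rw [hc, show ∀ (c : K) (x : O), zornMul x (c • unit K) = c • x from fun c x => by
        funext k; fin_cases k <;> simp [zornMul, unit, dot3, cross3] <;> ring] at hxx
      rcases smul_eq_zero.1 hxx with h | h
      · exact hj (by simpa [h2] using h)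
      · exact b.ne_zero i h
    intro x hx
    let C : O →ₗ[K] O := Matrix.mulVecLin (toM s)
    have hC : ∀ y, C y = act s y := fun y => rfl
    have hinv : ∀ y, act s (act s y) = y := by
      have : C.comp C = LinearMap.id := b.ext fun i => by
        rw [LinearMap.comp_apply, hC, hC, hb', act_smul, hb', smul_smul]
        rcases hall i with e | e <;> simp [e]
      intro y
      exact LinearMap.congr_fun this y
    have h0 := hone (x + act s x) (by rw [tr_add, (tr_nrm_act s x).1, hx, add_zero]) (by
      rw [act_add, hinv, add_comm])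
    exact eq_neg_of_add_eq_zero_right h0
  -- a product of two negated vectors
  have hA : zornMul (vA (![1, 0, 0] : Fin 3 → K)) (vA ![0, 1, 0]) = vB ![0, 0, 1] := by
    funext i; fin_cases i <;> simp [zornMul, vA, vB, dot3, cross3]
  have h1 := act_zornMul s (vA (![1, 0, 0] : Fin 3 → K)) (vA ![0, 1, 0])
  rw [hA, hneg _ (by simp [tr, vB]), hneg _ (by simp [tr, vA]), hneg _ (by simp [tr, vA])] at h1
  have h3 := congrFun h1 6
  simp [zornMul, vA, vB, dot3, cross3] at h3
  exact h2 (by linear_combination -h3)

/-- An idempotent fixed by a semisimple element. -/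
theorem exists_fixed_idempotent [IsAlgClosed K] :
    ∃ z : O, tr z = 1 ∧ nrm z = 0 ∧ act s z = z := by
  obtain ⟨w, hw, htw, -⟩ := exists_average hm hs (E0 K)
  have htw' : tr w = 1 := by rw [htw]; simp [tr, E0]
  -- it is enough to find a fixed vector with two different roots
  suffices h : ∃ v : O, ∃ r r' : K, r ≠ r' ∧ r + r' = tr v ∧ r * r' = nrm v ∧ act s v = v by
    obtain ⟨v, r, r', hne, hadd, hmul, hv⟩ := h
    have hd : r' - r ≠ 0 := sub_ne_zero.2 hne.symm
    refine ⟨(r' - r)⁻¹ • (v + (-r) • unit K), ?_, ?_, ?_⟩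
    · rw [tr_smul, tr_add, tr_smul, ← hadd, show tr (unit K) = 1 + 1 by simp [tr, unit],
        show r + r' + -r * (1 + 1) = r' - r by ring, inv_mul_cancel₀ hd]
    · have e : ∀ (c : K) (x : O), nrm (c • x) = c * c * nrm x := fun c x => by simp [nrm]; ring
      rw [e, nrm_add_unit, ← hadd, ← hmul]
      ring
    · rw [act_smul, act_add, act_smul_unit, hv]
  obtain ⟨r, hr⟩ := IsAlgClosed.exists_pow_nat_eq (1 - 4 * nrm w) (n := 2) two_pos
  by_cases h2 : (2 : K) = 0
  · obtain ⟨t, ht⟩ := IsAlgClosed.exists_root
      (Polynomial.X ^ 2 + Polynomial.X + Polynomial.C (nrm w) : Polynomial K) (by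
        rw [Polynomial.degree_add_C (by rw [Polynomial.degree_add_eq_left_of_degree_lt] <;> simp)]
        rw [Polynomial.degree_add_eq_left_of_degree_lt] <;> simp)
    simp only [Polynomial.IsRoot, Polynomial.eval_add, Polynomial.eval_pow, Polynomial.eval_X,
      Polynomial.eval_C] at ht
    refine ⟨w, t, 1 - t, fun e => one_ne_zero (show (1 : K) = 0 by linear_combination (-1) * e + t * h2),
      by rw [htw']; ring, ?_, hw⟩
    linear_combination -ht + t * h2
  by_cases hr0 : r = 0
  · obtain ⟨f, hf0, htf, hsf⟩ := exists_fixed_trace_zero hm hs h2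
    have main : ∀ v : O, tr v = 0 → nrm v ≠ 0 → act s v = v →
        ∃ v : O, ∃ r r' : K, r ≠ r' ∧ r + r' = tr v ∧ r * r' = nrm v ∧ act s v = v := by
      intro v htv hnv hsv
      obtain ⟨t, ht⟩ := IsAlgClosed.exists_pow_nat_eq (-nrm v) (n := 2) two_pos
      refine ⟨v, t, -t, fun e => hnv ?_, by rw [htv]; ring, by linear_combination -ht, hsv⟩
      have : t = 0 := by
        rcases mul_eq_zero.1 (show (2 : K) * t = 0 by linear_combination e) with h | h
        · exact absurd h h2
        · exact h
      rw [this] at ht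
      linear_combination ht
    by_cases hnf : nrm f = 0
    · obtain ⟨y, hy⟩ : ∃ y, polar f y ≠ 0 := by
        by_contra h
        push Not at h
        exact hf0 (polarB_nondeg.1 f fun y => h y)
      obtain ⟨g, hg, htg, hpg⟩ := exists_average hm hs (y + (-(tr y / 2)) • unit K)
      have htg' : tr g = 0 := by
        rw [htg, tr_add, tr_smul, show tr (unit K) = 2 by simp [tr, unit]; norm_num]
        field_simp
        ring
      have hpg' : polar f g ≠ 0 := by
        have e1 : polar f (y + (-(tr y / 2)) • unit K) = polar f y + (-(tr y / 2)) * tr f := by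
          simp [polar, tr, unit]; ring
        rw [hpg f hsf, e1, htf, mul_zero, add_zero]
        exact hy
      by_cases hng : nrm g = 0
      · refine main (f + g) (by rw [tr_add, htf, htg', add_zero]) ?_ (by rw [act_add, hsf, hg])
        rw [nrm_add, hnf, hng, zero_add, zero_add]
        exact hpg'
      · exact main g htg' hng hg
    · exact main f htf hnf hsf
  · refine ⟨w, (1 + r) / 2, (1 - r) / 2, fun e => hr0 ?_, by rw [htw']; field_simp; ring, ?_, hw⟩
    · field_simp at e
      rcases mul_eq_zero.1 (show (2 : K) * r = 0 by linear_combination e) with h | h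
      · exact absurd h h2
      · exact h
    · field_simp
      linear_combination -hr

end Average

/-- The diagonal of three parameters. -/
def dv (a b c : K) : Fin 8 → K := ![1, a, b, c, a⁻¹, b⁻¹, c⁻¹, 1]

/-- A semisimple element is conjugate to a diagonal one. -/
theorem exists_conj_diag [IsAlgClosed K] {s : Cfsg.Lie.G2 K} {m : ℕ} (hm : (m : K) ≠ 0)
    (hs : s ^ m = 1) : ∃ (P : Cfsg.Lie.G2 K) (a b c : K),
      a * b * c = 1 ∧ ∀ x, act (P * s * P⁻¹) x = fun i => dv a b c i * x i := by
  obtain ⟨z, htz, hnz, hz⟩ := exists_fixed_idempotent hm hs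
  obtain ⟨Q, hQ⟩ := exists_act_E0 htz hnz
  obtain ⟨s1, hs1⟩ : ∃ s1, s1 = Q * s * Q⁻¹ := ⟨_, rfl⟩
  have hE : act s1 (E0 K) = E0 K := by
    rw [hs1, act_mul, act_mul, ← hQ, act_inv_act, hz]
  have hpow : blockA s1 ^ m = 1 := by
    have hs1m : s1 ^ m = 1 := by rw [hs1, conj_pow, hs, mul_one, mul_inv_cancel]
    have h : ∀ k : ℕ, ∀ x, act (s1 ^ k) x = slMap (blockA s1 ^ k) x := by
      intro k
      induction k with
      | zero => intro x; rw [pow_zero, pow_zero, act_id, slMap_id]
      | succ k ih => intro x; rw [pow_succ', act_mul, ih, act_eq_slMap hE, slMap_comp, ← pow_succ']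
    refine Matrix.ext_of_mulVec_single fun i => ?_
    have h1 := congrArg (zA K) (h m (vA (Pi.single i 1)))
    rw [hs1m, act_id, zA_slMap] at h1
    have e : ∀ a : Fin 3 → K, zA K (vA a) = a := fun a => by funext j; fin_cases j <;> rfl
    rw [e] at h1
    rw [← h1, Matrix.one_mulVec]
  obtain ⟨R, μ, hR, hRe⟩ := exists_diag hm hpow
  obtain ⟨r, hr⟩ := exists_sl_elt hR
  have hdet : μ 0 * μ 1 * μ 2 = 1 := by
    have h := congrArg Matrix.det hRe
    rw [Matrix.det_mul, Matrix.det_mul, hR, det_blockA hE, Matrix.det_diagonal, Fin.prod_univ_three] at h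
    simpa using h.symm
  refine ⟨r * Q, μ 0, μ 1, μ 2, hdet, fun x => ?_⟩
  obtain ⟨y, rfl⟩ : ∃ y, act r y = x := ⟨act r⁻¹ x, act_act_inv r x⟩
  have h1 : act (r * Q * s * (r * Q)⁻¹) (act r y) = slMap (Matrix.diagonal μ) (act r y) := by
    rw [show r * Q * s * (r * Q)⁻¹ = r * s1 * r⁻¹ by rw [hs1]; group, act_mul, act_inv_act, act_mul,
      act_eq_slMap hE, hr, hr, slMap_comp, slMap_comp, hRe]
  rw [h1]
  have ha : μ 0 ≠ 0 := by intro h; simp [h] at hdet
  have hb : μ 1 ≠ 0 := by intro h; simp [h] at hdet
  have hc : μ 2 ≠ 0 := by intro h; simp [h] at hdet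
  have i0 : μ 1 * μ 2 = (μ 0)⁻¹ := eq_inv_of_mul_eq_one_left (by linear_combination hdet)
  have i1 : μ 0 * μ 2 = (μ 1)⁻¹ := eq_inv_of_mul_eq_one_left (by linear_combination hdet)
  have i2 : μ 0 * μ 1 = (μ 2)⁻¹ := eq_inv_of_mul_eq_one_left (by linear_combination hdet)
  have hadj : (Matrix.diagonal μ).adjugateᵀ = Matrix.diagonal ![(μ 0)⁻¹, (μ 1)⁻¹, (μ 2)⁻¹] := by
    rw [Matrix.adjugate_diagonal, Matrix.diagonal_transpose]
    congr 1
    funext i
    fin_cases i <;>
      simp [show (Finset.univ.erase (0 : Fin 3)) = {1, 2} by decide,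
        show (Finset.univ.erase (1 : Fin 3)) = {0, 2} by decide,
        show (Finset.univ.erase (2 : Fin 3)) = {0, 1} by decide, i0, i1, i2]
  funext i
  simp only [slMap, LinearMap.coe_mk, AddHom.coe_mk, hadj]
  fin_cases i <;> simp [dv, Matrix.mulVec_diagonal]

end Cfsg.Agent.G2Orders
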