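import Cfsg.Agent.Lib.G2Orders.Hom
import Cfsg.Agent.Lib.G2Orders.Stab

/-!
The automorphisms of the split octonions over any field are transitive on idempotents of trace one
and norm zero.
-/

set_option autoImplicit false
set_option linter.unusedSectionVars false
set_option linter.unusedSimpArgs false

namespace Cfsg.Agent.G2Orders

open Matrix Cfsg.Lie Cfsg.Agent.Classical.NormalCover.GTwo

variable {F : Type*} [Field F]

local notation "O" => (Fin 8 → F)

theorem act_xr {r : ℕ} (hr : r < 12) (t : F) (x : O) : act (xr r t) x = rootM r t *ᵥ x := by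
  show toM (xr r t) *ᵥ x = _
  rw [toM_xr hr]

theorem act_xr_seven (t : F) (x : O) :
    act (xr 7 t) x = ![x 0 + t * x 4, x 1 - t * x 0 + t * x 7 - t * t * x 4, x 2, x 3, x 4,
      x 5 + t * x 3, x 6 - t * x 2, x 7 - t * x 4] := by
  rw [act_xr (by norm_num)]
  funext i
  simp only [rootM, rootTab, List.map_cons, List.map_nil, List.sum_cons, List.sum_nil,
    Matrix.add_mulVec, Matrix.one_mulVec, add_zero, Pi.add_apply, sgl_mulVec]
  fin_cases i <;> simp <;> ring

theorem act_xr_four (t : F) (x : O) :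
    act (xr 4 t) x = ![x 0 - t * x 1, x 1, x 2 - t * x 6, x 3 + t * x 5,
      x 4 + t * x 0 - t * x 7 - t * t * x 1, x 5, x 6, x 7 + t * x 1] := by
  rw [act_xr (by norm_num)]
  funext i
  simp only [rootM, rootTab, List.map_cons, List.map_nil, List.sum_cons, List.sum_nil,
    Matrix.add_mulVec, Matrix.one_mulVec, add_zero, Pi.add_apply, sgl_mulVec]
  fin_cases i <;> simp <;> ring

/-- Moving a nonzero vector by the second action of the special linear group. -/
theorem exists_move_second {b : Fin 3 → F} (hb : b ≠ 0) :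
    ∃ M : Matrix (Fin 3) (Fin 3) F, M.det = 1 ∧ M.adjugateᵀ *ᵥ b = ![1, 0, 0] := by
  obtain ⟨N, hN, e⟩ := exists_move_first hb
  refine ⟨N.adjugateᵀ, by rw [Matrix.det_transpose, Matrix.det_adjugate, hN, one_pow], ?_⟩
  rw [← Matrix.adjugate_transpose, Matrix.adjugate_adjugate _ (by simp), hN, one_pow, one_smul,
    Matrix.transpose_transpose]
  exact e

theorem exists_act_E0_of_A_zero {z : O} (hA : zA F z = 0) (hB : zB F z = 0) (ht : tr z = 1)
    (hn : nrm z = 0) : ∃ g : Cfsg.Lie.G2 F, act g z = E0 F := by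
  have h1 : z 1 = 0 := congrFun hA 0
  have h2 : z 2 = 0 := congrFun hA 1
  have h3 : z 3 = 0 := congrFun hA 2
  have h4 : z 4 = 0 := congrFun hB 0
  have h5 : z 5 = 0 := congrFun hB 1
  have h6 : z 6 = 0 := congrFun hB 2
  simp only [nrm, h1, h2, h3, zero_mul, add_zero, sub_zero] at hn
  simp only [tr] at ht
  rcases mul_eq_zero.1 hn with h0 | h7
  · have h7 : z 7 = 1 := by rw [← ht, h0, zero_add]
    refine ⟨xr 7 1 * (xr 4 (-1) * xr 7 1), ?_⟩
    rw [act_mul, act_mul, act_xr_seven, act_xr_four, act_xr_seven]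
    funext i
    fin_cases i <;> simp [E0, h0, h1, h2, h3, h4, h5, h6, h7]
  · have h0 : z 0 = 1 := by rw [← ht, h7, add_zero]
    refine ⟨1, ?_⟩
    rw [act_id]
    funext i
    fin_cases i <;> simp [E0, h0, h1, h2, h3, h4, h5, h6, h7]

theorem exists_act_E0_of_A {z : O} (hA : zA F z = 0) (ht : tr z = 1) (hn : nrm z = 0) :
    ∃ g : Cfsg.Lie.G2 F, act g z = E0 F := by
  by_cases hB : zB F z = 0
  · exact exists_act_E0_of_A_zero hA hB ht hn
  obtain ⟨M, hM, e⟩ := exists_move_second hB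
  obtain ⟨g, hg⟩ := exists_sl_elt hM
  obtain ⟨w, hw⟩ : ∃ w, w = act g z := ⟨_, rfl⟩
  have hwA : zA F w = 0 := by rw [hw, hg, zA_slMap, hA, Matrix.mulVec_zero]
  have hwB : zB F w = ![1, 0, 0] := by rw [hw, hg, zB_slMap, e]
  have htw : tr w = 1 := by rw [hw, (tr_nrm_act g z).1, ht]
  have hnw : nrm w = 0 := by rw [hw, (tr_nrm_act g z).2, hn]
  have w1 : w 1 = 0 := congrFun hwA 0
  have w2 : w 2 = 0 := congrFun hwA 1
  have w3 : w 3 = 0 := congrFun hwA 2
  have w4 : w 4 = 1 := congrFun hwB 0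
  have w5 : w 5 = 0 := congrFun hwB 1
  have w6 : w 6 = 0 := congrFun hwB 2
  have hd : ∃ t : F, 1 + t * w 0 - t * w 7 = 0 := by
    have h0 : w 0 * w 7 = 0 := by
      simp only [nrm, w1, w2, w3, zero_mul, add_zero, sub_zero] at hnw
      exact hnw
    simp only [tr] at htw
    rcases mul_eq_zero.1 h0 with h | h
    · exact ⟨1, by linear_combination 2 * h - htw⟩
    · exact ⟨-1, by linear_combination 2 * h - htw⟩
  obtain ⟨t, ht'⟩ := hd
  obtain ⟨v, hv⟩ : ∃ v, v = act (xr 4 t) w := ⟨_, rfl⟩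
  obtain ⟨k, hk⟩ := exists_act_E0_of_A_zero (z := v) (by
      rw [hv, act_xr_four]
      funext i; fin_cases i <;> simp [w1, w2, w3, w5, w6]) (by
      rw [hv, act_xr_four]
      funext i; fin_cases i <;> simp [w1, w4, w5, w6, ht'])
    (by rw [hv, (tr_nrm_act _ w).1, htw]) (by rw [hv, (tr_nrm_act _ w).2, hnw])
  exact ⟨k * xr 4 t * g, by rw [act_mul, act_mul, ← hw, ← hv, hk]⟩

theorem exists_act_E0 {z : O} (ht : tr z = 1) (hn : nrm z = 0) :
    ∃ g : Cfsg.Lie.G2 F, act g z = E0 F := by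
  by_cases hA : zA F z = 0
  · exact exists_act_E0_of_A hA ht hn
  obtain ⟨M, hM, e⟩ := exists_move_first hA
  obtain ⟨g, hg⟩ := exists_sl_elt hM
  obtain ⟨w, hw⟩ : ∃ w, w = act g z := ⟨_, rfl⟩
  have hwA : zA F w = ![1, 0, 0] := by rw [hw, hg, zA_slMap, e]
  have htw : tr w = 1 := by rw [hw, (tr_nrm_act g z).1, ht]
  have hnw : nrm w = 0 := by rw [hw, (tr_nrm_act g z).2, hn]
  -- first make the corner vanish
  obtain ⟨v, hv⟩ : ∃ v, v = act (xr 4 (w 0)) w := ⟨_, rfl⟩
  have htv : tr v = 1 := by rw [hv, (tr_nrm_act _ w).1, htw]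
  have hnv : nrm v = 0 := by rw [hv, (tr_nrm_act _ w).2, hnw]
  have w1 : w 1 = 1 := congrFun hwA 0
  have v0 : v 0 = 0 := by rw [hv, act_xr_four]; simp [w1]
  have v7 : v 7 = 1 := by simp only [tr, v0, zero_add] at htv; exact htv
  have hvA : zA F v ≠ 0 := fun h => by
    have h1 : v 1 = 0 := congrFun h 0
    rw [hv, act_xr_four] at h1
    simp [w1] at h1
  obtain ⟨N, hN, eN⟩ := exists_move_first hvA
  obtain ⟨k, hk⟩ := exists_sl_elt hN
  obtain ⟨u, hu⟩ : ∃ u, u = act k v := ⟨_, rfl⟩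
  have huA : zA F u = ![1, 0, 0] := by rw [hu, hk, zA_slMap, eN]
  have htu : tr u = 1 := by rw [hu, (tr_nrm_act k v).1, htv]
  have hnu : nrm u = 0 := by rw [hu, (tr_nrm_act k v).2, hnv]
  have u0 : u 0 = 0 := by rw [hu, hk, slMap_zero, v0]
  have u7 : u 7 = 1 := by rw [hu, hk, slMap_seven, v7]
  have u1 : u 1 = 1 := congrFun huA 0
  have u2 : u 2 = 0 := congrFun huA 1
  have u3 : u 3 = 0 := congrFun huA 2
  have u4 : u 4 = 0 := by
    simp only [nrm, u0, u1, u2, u3, zero_mul, one_mul, add_zero, zero_sub, neg_eq_zero] at hnu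
    exact hnu
  obtain ⟨l, hl⟩ := exists_act_E0_of_A (z := act (xr 7 (-1)) u) (by
      rw [act_xr_seven]
      funext i; fin_cases i <;> simp [u0, u1, u2, u3, u4, u7])
    (by rw [(tr_nrm_act _ u).1, htu]) (by rw [(tr_nrm_act _ u).2, hnu])
  exact ⟨l * xr 7 (-1) * k * xr 4 (w 0) * g, by
    rw [act_mul, act_mul, act_mul, act_mul, ← hw, ← hv, ← hu, hl]⟩

end Cfsg.Agent.G2Orders
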