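import Cfsg.Agent.Lib.G2Orders.Arith

/-!
The possible element orders in the automorphism group of the split octonions over a finite field.
-/

set_option autoImplicit false
set_option linter.unusedSectionVars false
set_option linter.unusedSimpArgs false

namespace Cfsg.Agent.G2Orders

open Matrix Cfsg.Lie Cfsg.Agent.Classical.NormalCover.GTwo

/-! ### Extension of the field -/

section Map

variable {F K : Type*} [Field F] [Field K]

theorem zornMul_map (φ : F →+* K) (x y : Fin 8 → F) :
    zornMul (φ ∘ x) (φ ∘ y) = φ ∘ zornMul x y := by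
  funext i; fin_cases i <;> simp [zornMul, dot3, cross3]

/-- The product as a bilinear map. -/
def zornB (K : Type*) [Field K] : (Fin 8 → K) →ₗ[K] (Fin 8 → K) →ₗ[K] (Fin 8 → K) :=
  LinearMap.mk₂ K zornMul
    (fun a b c => by funext i; fin_cases i <;> simp [zornMul, dot3, cross3] <;> ring)
    (fun r a b => by funext i; fin_cases i <;> simp [zornMul, dot3, cross3] <;> ring)
    (fun a b c => by funext i; fin_cases i <;> simp [zornMul, dot3, cross3] <;> ring)
    (fun r a b => by funext i; fin_cases i <;> simp [zornMul, dot3, cross3] <;> ring)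

theorem map_mem (φ : F →+* K) (g : Cfsg.Lie.G2 F) :
    Units.map φ.mapMatrix.toMonoidHom (g : GL (Fin 8) F) ∈ Cfsg.Lie.G2 K := by
  obtain ⟨M, hMdef⟩ : ∃ M, M = (toM g).map φ := ⟨_, rfl⟩
  intro x y
  show _ *ᵥ _ = _
  have e : (Units.coeHom (Matrix (Fin 8) (Fin 8) K)) (Units.map φ.mapMatrix.toMonoidHom (g : GL (Fin 8) F)) = M :=
    hMdef.symm
  rw [e]
  have hsingle : ∀ i : Fin 8, M *ᵥ Pi.single i 1 = φ ∘ act g (Pi.single i 1) := fun i => by
    funext k
    rw [hMdef, act, toM, Matrix.mulVec_single_one, Function.comp_apply, Matrix.mulVec_single_one]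
    rfl
  have h : (zornB K).compr₂ (Matrix.mulVecLin M) =
      (zornB K).compl₁₂ (Matrix.mulVecLin M) (Matrix.mulVecLin M) := by
    refine LinearMap.ext_basis (Pi.basisFun K (Fin 8)) (Pi.basisFun K (Fin 8)) fun i j => ?_
    show M *ᵥ zornMul (Pi.basisFun K (Fin 8) i) (Pi.basisFun K (Fin 8) j) =
      zornMul (M *ᵥ Pi.basisFun K (Fin 8) i) (M *ᵥ Pi.basisFun K (Fin 8) j)
    rw [Pi.basisFun_apply, Pi.basisFun_apply, hsingle, hsingle, zornMul_map, ← act_zornMul]
    have es : ∀ i : Fin 8, (Pi.single i 1 : Fin 8 → K) = φ ∘ Pi.single i (1 : F) := fun i => by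
      funext k; simp [Pi.single_apply, apply_ite φ]
    rw [es, es, zornMul_map, hMdef]
    funext k
    exact (RingHom.map_mulVec φ (toM g) (zornMul _ _) k).symm
  exact LinearMap.congr_fun₂ h x y

/-- Extension of scalars. -/
def mapG (φ : F →+* K) : Cfsg.Lie.G2 F →* Cfsg.Lie.G2 K where
  toFun g := ⟨Units.map φ.mapMatrix.toMonoidHom (g : GL (Fin 8) F), map_mem φ g⟩
  map_one' := Subtype.ext (map_one _)
  map_mul' g h := Subtype.ext (map_mul _ (g : GL (Fin 8) F) h)

theorem toM_mapG (φ : F →+* K) (g : Cfsg.Lie.G2 F) : toM (mapG φ g) = (toM g).map φ := rfl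

theorem mapG_injective (φ : F →+* K) : Function.Injective (mapG φ) := fun g h e => by
  refine toM_injective (Matrix.map_injective φ.injective ?_)
  show (toM g).map φ = (toM h).map φ
  rw [← toM_mapG, ← toM_mapG, e]

end Map

section Diagonal

variable {K : Type*} [Field K] {a b c : K}

theorem dv_opp (i : Fin 8) : dv a b c (opp i) = (dv a b c i)⁻¹ := by
  fin_cases i <;> simp [dv, opp]

theorem opp_injective : Function.Injective opp := by decide

theorem filter_subset_mid [DecidableEq K] {v : K} (hv : v ≠ 1) :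
    (Finset.univ.filter fun i => dv a b c i = v) ⊆ ({1, 2, 3, 4, 5, 6} : Finset (Fin 8)) := by
  intro i hi
  rw [Finset.mem_filter] at hi
  fin_cases i <;> simp [dv] at hi ⊢ <;> exact hv hi.symm

theorem card_cls_le_three [DecidableEq K] (habc : a * b * c = 1) {v : K} (hv : v ≠ 1) (hv' : v * v ≠ 1) :
    (Finset.univ.filter fun i => dv a b c i = v).card ≤ 3 ∧
      ((Finset.univ.filter fun i => dv a b c i = v).card = 3 →
        ∀ i ∈ ({1, 2, 3, 4, 5, 6} : Finset (Fin 8)), dv a b c i = v ∨ dv a b c i = v⁻¹) := by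
  set S := Finset.univ.filter fun i => dv a b c i = v with hS
  set T := Finset.univ.filter fun i => dv a b c i = v⁻¹ with hT
  have hv1 : v⁻¹ ≠ 1 := fun e => hv (inv_eq_one.1 e)
  have hST : Disjoint S T := by
    rw [Finset.disjoint_left]
    intro i hi hi'
    rw [hS, Finset.mem_filter] at hi
    rw [hT, Finset.mem_filter, hi.2] at hi'
    by_cases h0 : v = 0
    · have ha : a ≠ 0 := by rintro rfl; simp at habc
      have hb : b ≠ 0 := by rintro rfl; simp at habc
      have hc : c ≠ 0 := by rintro rfl; simp at habc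
      subst h0
      have := hi.2
      fin_cases i <;> simp [dv, ha, hb, hc] at this
    · exact hv' (by nth_rw 1 [hi'.2]; rw [inv_mul_cancel₀ h0])
  have hle : S.card ≤ T.card := by
    refine Finset.card_le_card_of_injOn opp (fun i hi => ?_) opp_injective.injOn
    rw [Finset.mem_coe, hS, Finset.mem_filter] at hi
    rw [Finset.mem_coe, hT, Finset.mem_filter, dv_opp, hi.2]
    exact ⟨Finset.mem_univ _, rfl⟩
  have hsub : S ∪ T ⊆ ({1, 2, 3, 4, 5, 6} : Finset (Fin 8)) :=
    Finset.union_subset (filter_subset_mid hv) (filter_subset_mid hv1)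
  have h6 := Finset.card_le_card hsub
  rw [Finset.card_union_of_disjoint hST, show ({1, 2, 3, 4, 5, 6} : Finset (Fin 8)).card = 6 from rfl] at h6
  refine ⟨by omega, fun h3 i hi => ?_⟩
  have he : S ∪ T = ({1, 2, 3, 4, 5, 6} : Finset (Fin 8)) :=
    Finset.eq_of_subset_of_card_le hsub (by
      rw [Finset.card_union_of_disjoint hST, show ({1, 2, 3, 4, 5, 6} : Finset (Fin 8)).card = 6 from rfl]
      omega)
  rw [← he, Finset.mem_union] at hi
  rcases hi with hi | hi
  · exact Or.inl (Finset.mem_filter.1 hi).2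
  · exact Or.inr (Finset.mem_filter.1 hi).2

theorem card_cls_neg_one [DecidableEq K] (h2 : (2 : K) ≠ 0) (habc : a * b * c = 1) :
    (Finset.univ.filter fun i => dv a b c i = -1).card ≤ 4 := by
  have h1 : (-1 : K) ≠ 1 := fun e => h2 (by linear_combination -e)
  have hcase : a ≠ -1 ∨ b ≠ -1 ∨ c ≠ -1 := by
    by_contra h
    push Not at h
    obtain ⟨rfl, rfl, rfl⟩ := h
    exact h1 (by linear_combination habc)
  have hsub : ∀ k : Fin 8, dv a b c k ≠ -1 → k ∈ ({1, 2, 3} : Finset (Fin 8)) →
      (Finset.univ.filter fun i => dv a b c i = -1).card ≤ 4 := by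
    intro k hk hk'
    refine (Finset.card_le_card (t := (({1, 2, 3, 4, 5, 6} : Finset (Fin 8)).erase k).erase (opp k)) ?_).trans ?_
    · intro i hi
      refine Finset.mem_erase.2 ⟨?_, Finset.mem_erase.2 ⟨?_, filter_subset_mid h1 hi⟩⟩
      · rintro rfl
        rw [Finset.mem_filter, dv_opp] at hi
        exact hk (by rw [← inv_inv (dv a b c k), hi.2, inv_neg, inv_one])
      · rintro rfl
        exact hk (Finset.mem_filter.1 hi).2
    · simp only [Finset.mem_insert, Finset.mem_singleton] at hk'
      rcases hk' with rfl | rfl | rfl <;> decide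
  rcases hcase with h | h | h
  · exact hsub 1 h (by decide)
  · exact hsub 2 h (by decide)
  · exact hsub 3 h (by decide)

theorem card_general [DecidableEq K] (habc : a * b * c = 1) (h1 : a ≠ 1) (h2 : b ≠ 1) (h3 : c ≠ 1)
    (h12 : a ≠ b) (h23 : b ≠ c) (h31 : c ≠ a) {v : K} (hv : v ≠ 1) :
    (v * v ≠ 1 → (Finset.univ.filter fun i => dv a b c i = v).card ≤ 1) ∧
      (v * v = 1 → (Finset.univ.filter fun i => dv a b c i = v).card ≤ 2) := by
  have ha : a ≠ 0 := by rintro rfl; simp at habc
  have hb : b ≠ 0 := by rintro rfl; simp at habc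
  have hc : c ≠ 0 := by rintro rfl; simp at habc
  have n1 : a ≠ b⁻¹ := fun e => h3 (by
    rw [e, inv_mul_cancel₀ hb, one_mul] at habc; exact habc)
  have n2 : b ≠ c⁻¹ := fun e => h1 (by
    rw [mul_assoc, e, inv_mul_cancel₀ hc, mul_one] at habc; exact habc)
  have n3 : c ≠ a⁻¹ := fun e => h2 (by
    rw [e] at habc
    calc b = a * b * a⁻¹ := by field_simp
      _ = 1 := habc)
  have m1 : a⁻¹ ≠ b := fun e => n1 (by rw [← e, inv_inv])
  have m2 : b⁻¹ ≠ c := fun e => n2 (by rw [← e, inv_inv])
  have m3 : c⁻¹ ≠ a := fun e => n3 (by rw [← e, inv_inv])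
  constructor
  · intro hv'
    rw [Finset.card_le_one]
    intro i hi j hj
    have hi' := filter_subset_mid hv hi
    have hj' := filter_subset_mid hv hj
    rw [Finset.mem_filter] at hi hj
    have hij : dv a b c i = dv a b c j := hi.2.trans hj.2.symm
    have hni : dv a b c i * dv a b c i ≠ 1 := by rw [hi.2]; exact hv'
    have hsq : ∀ x : K, x ≠ 0 → x = x⁻¹ → x * x = 1 := fun x hx e => by
      nth_rw 2 [e]
      exact mul_inv_cancel₀ hx
    fin_cases i <;> fin_cases j <;>
      first
        | rfl
        | exact absurd hi' (by decide)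
        | exact absurd hj' (by decide)
        | exact absurd hij h12
        | exact absurd hij h12.symm
        | exact absurd hij h23
        | exact absurd hij h23.symm
        | exact absurd hij h31
        | exact absurd hij h31.symm
        | exact absurd hij n1
        | exact absurd hij n1.symm
        | exact absurd hij n2
        | exact absurd hij n2.symm
        | exact absurd hij n3
        | exact absurd hij n3.symm
        | exact absurd hij m1
        | exact absurd hij m1.symm
        | exact absurd hij m2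
        | exact absurd hij m2.symm
        | exact absurd hij m3
        | exact absurd hij m3.symm
        | exact absurd (inv_injective hij) h12
        | exact absurd (inv_injective hij) h12.symm
        | exact absurd (inv_injective hij) h23
        | exact absurd (inv_injective hij) h23.symm
        | exact absurd (inv_injective hij) h31
        | exact absurd (inv_injective hij) h31.symm
        | exact absurd (hsq _ ha hij) hni
        | exact absurd (hsq _ hb hij) hni
        | exact absurd (hsq _ hc hij) hni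
        | exact absurd (hsq _ (inv_ne_zero ha) (hij.trans (inv_inv _).symm)) hni
        | exact absurd (hsq _ (inv_ne_zero hb) (hij.trans (inv_inv _).symm)) hni
        | exact absurd (hsq _ (inv_ne_zero hc) (hij.trans (inv_inv _).symm)) hni
  · intro hv'
    have hv0 : v⁻¹ = v := inv_eq_of_mul_eq_one_right hv'
    have hsub : ∀ k : Fin 8, dv a b c k = v → k ∈ ({1, 2, 3} : Finset (Fin 8)) →
        (Finset.univ.filter fun i => dv a b c i = v).card ≤ 2 := by
      intro k hk hk'
      refine (Finset.card_le_card (t := {k, opp k}) ?_).trans Finset.card_le_two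
      intro i hi
      have hi' := filter_subset_mid hv hi
      rw [Finset.mem_filter] at hi
      have hij : dv a b c i = dv a b c k := hi.2.trans hk.symm
      simp only [Finset.mem_insert, Finset.mem_singleton] at hk'
      rcases hk' with rfl | rfl | rfl <;> fin_cases i <;>
        simp [dv, opp, h12, h12.symm, h23, h23.symm, h31, h31.symm, n1, n1.symm, n2, n2.symm, n3,
          n3.symm, m1, m1.symm, m2, m2.symm, m3, m3.symm] at hij hi' ⊢
    by_cases ka : a = v
    · exact hsub 1 ka (by decide)
    by_cases kb : b = v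
    · exact hsub 2 kb (by decide)
    by_cases kc : c = v
    · exact hsub 3 kc (by decide)
    have na : a⁻¹ ≠ v := fun e => ka (by rw [← inv_inv a, e, hv0])
    have nb : b⁻¹ ≠ v := fun e => kb (by rw [← inv_inv b, e, hv0])
    have nc : c⁻¹ ≠ v := fun e => kc (by rw [← inv_inv c, e, hv0])
    refine (Finset.card_eq_zero.2 (Finset.filter_eq_empty_iff.2 fun i _ => ?_)).le.trans (by norm_num)
    fin_cases i <;> simp [dv, ka, kb, kc, na, nb, nc, hv.symm]

variable {s : Cfsg.Lie.G2 K} (habc : a * b * c = 1)
  (hs : ∀ x, act s x = fun i => dv a b c i * x i) {p : ℕ} [Fact p.Prime] [CharP K p]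
include habc hs

theorem pow_eq_one_iff_ord3 {N : ℕ} (h : Ord3 N a b c) : s ^ N = 1 := by
  have e : ∀ (k : ℕ) (x : Fin 8 → K), act (s ^ k) x = fun i => dv a b c i ^ k * x i := by
    intro k
    induction k with
    | zero => intro x; rw [pow_zero, act_id]; simp
    | succ k ih => intro x; rw [pow_succ', act_mul, ih, hs]; funext i; ring
  refine eq_of_act_eq (g := s ^ N) (h := 1) fun x => ?_
  rw [e, act_id]
  funext i
  fin_cases i <;> simp [dv, h.1, h.2.1, h.2.2, inv_pow]

theorem unipotent_eq_one (h1 : a ≠ 1) (h2 : b ≠ 1) (h3 : c ≠ 1) (h12 : a ≠ b) (h23 : b ≠ c)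
    (h31 : c ≠ a) {u : Cfsg.Lie.G2 K} (hc : Commute s u) {j : ℕ} (hu : u ^ p ^ j = 1) : u = 1 := by
  classical
  refine eq_one_of_fixed hs (fun h => h1 h.1) (fun v hv x hx => ?_) habc
  obtain ⟨ha, hb⟩ := card_general habc h1 h2 h3 h12 h23 h31 hv
  by_cases hv' : v * v = 1
  · have hv1 : v = -1 := (mul_self_eq_one_iff.1 hv').resolve_left hv
    have h20 : (2 : K) ≠ 0 := fun e => hv (by linear_combination hv1 - e)
    subst hv1
    have := fixed_of_neg_one hs h20 hc hu (r := 1) (Or.inl rfl) (hb hv') x hx
    simpa using this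
  · have := fixed_of_card_le hs hc hu v (k := 0) (by simpa using ha hv') x hx
    simpa using this

theorem unipotent_pow_prime (hs1 : s ≠ 1) {u : Cfsg.Lie.G2 K} (hc : Commute s u) {j : ℕ}
    (hu : u ^ p ^ j = 1) : u ^ p = 1 ∨ (p = 2 ∧ s ^ 3 = 1 ∧ u ^ 4 = 1) := by
  classical
  have hab : ¬ (a = 1 ∧ b = 1 ∧ c = 1) := fun h =>
    hs1 (by simpa using pow_eq_one_iff_ord3 habc hs (N := 1) ⟨by simp [h.1], by simp [h.2.1], by simp [h.2.2]⟩)
  have hp := (Fact.out : p.Prime).two_le
  by_cases hp2 : p = 2
  · subst hp2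
    have h20 : (2 : K) = 0 := CharTwo.two_eq_zero
    have hneg : ∀ v : K, v ≠ 1 → v * v ≠ 1 := fun v hv e =>
      hv ((mul_self_eq_one_iff.1 e).elim id (fun e' => e'.trans (by linear_combination -h20)))
    by_cases hall : ∀ v : K, v ≠ 1 → (Finset.univ.filter fun i => dv a b c i = v).card ≤ 2
    · left
      refine eq_one_of_fixed hs hab (fun v hv x hx => ?_) habc
      have := fixed_of_card_le hs hc hu v (k := 1) (by simpa using hall v hv) x hx
      simpa using this
    · right
      push Not at hall
      obtain ⟨v, hv, hgt⟩ := hall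
      obtain ⟨hle, hmem⟩ := card_cls_le_three habc hv (hneg v hv)
      have hm := hmem (by omega)
      have ha := hm 1 (by decide)
      have hb := hm 2 (by decide)
      have hcc := hm 3 (by decide)
      change a = v ∨ a = v⁻¹ at ha
      change b = v ∨ b = v⁻¹ at hb
      change c = v ∨ c = v⁻¹ at hcc
      have hv3 : v ^ 3 = 1 := by
        have hv0 : v ≠ 0 := by
          rintro rfl
          rcases ha with e | e <;> simp [e] at habc
        rcases ha with ha | ha <;> rcases hb with hb | hb <;> rcases hcc with hcc | hcc <;>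
          rw [ha, hb, hcc] at habc <;> field_simp at habc <;>
          first
            | linear_combination habc
            | linear_combination -habc
            | exact absurd habc hv
            | exact absurd habc.symm hv
      have h3 : ∀ w, w = v ∨ w = v⁻¹ → w ^ 3 = 1 := by
        rintro w (rfl | rfl)
        · exact hv3
        · rw [inv_pow, hv3, inv_one]
      refine ⟨rfl, pow_eq_one_iff_ord3 habc hs ⟨h3 a ha, h3 b hb, h3 c hcc⟩, ?_⟩
      refine eq_one_of_fixed hs hab (fun w hw x hx => ?_) habc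
      have := fixed_of_card_le hs hc hu w (k := 2)
        ((card_cls_le_three habc hw (hneg w hw)).1.trans (by norm_num)) x hx
      simpa using this
  · left
    have h20 : (2 : K) ≠ 0 := by
      intro e
      have : p ∣ 2 := (CharP.cast_eq_zero_iff K p 2).1 (by exact_mod_cast e)
      exact hp2 ((Nat.prime_dvd_prime_iff_eq Fact.out Nat.prime_two).1 this)
    refine eq_one_of_fixed hs hab (fun v hv x hx => ?_) habc
    by_cases hv' : v * v = 1
    · have hv1 : v = -1 := (mul_self_eq_one_iff.1 hv').resolve_left hv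
      subst hv1
      have h4 := card_cls_neg_one (a := a) (b := b) (c := c) h20 habc
      exact fixed_of_neg_one hs h20 hc hu (r := p) (Or.inr rfl) (h4.trans (by omega)) x hx
    · have := fixed_of_card_le hs hc hu v (k := 1)
        ((card_cls_le_three habc hv hv').1.trans (by rw [pow_one]; omega)) x hx
      simpa using this

end Diagonal

section Unipotent

variable {K : Type*} [Field K] {p : ℕ} [Fact p.Prime] [CharP K p]

theorem pow_eq_one_of_le {u : Cfsg.Lie.G2 K} {j k : ℕ} (hu : u ^ p ^ j = 1) (hk : 8 ≤ p ^ k) :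
    u ^ p ^ k = 1 := by
  classical
  have hs : ∀ x, act (1 : Cfsg.Lie.G2 K) x = fun i => dv (1 : K) 1 1 i * x i := fun x => by
    rw [act_id]; funext i; fin_cases i <;> simp [dv]
  refine eq_of_act_eq (g := u ^ p ^ k) (h := 1) fun x => ?_
  rw [act_id]
  refine fixed_of_card_le hs (Commute.one_left u) hu 1 (k := k) ?_ x ?_
  · exact (Finset.card_le_univ _).trans (by simpa using hk)
  · intro i hi
    exact absurd (by fin_cases i <;> simp [dv]) hi

theorem pow_eq_one_of_seven {u : Cfsg.Lie.G2 K} {j k : ℕ} (hu : u ^ p ^ j = 1) (hk : 7 ≤ p ^ k)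
    (h2 : (2 : K) ≠ 0) : u ^ p ^ k = 1 := by
  let trL : (Fin 8 → K) →ₗ[K] K :=
    { toFun := tr, map_add' := tr_add, map_smul' := fun c x => by simp [tr_smul] }
  let W := LinearMap.ker trL
  let U : Module.End K W :=
    { toFun := fun x => ⟨act u x.1, by
        show tr (act u x.1) = 0
        rw [(tr_nrm_act u x.1).1]; exact x.2⟩
      map_add' := fun x y => Subtype.ext (act_add u x.1 y.1)
      map_smul' := fun r x => Subtype.ext (act_smul u r x.1) }
  have hU : ∀ (n : ℕ) (x : W), ((U ^ n) x).1 = act (u ^ n) x.1 := by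
    intro n x
    induction n with
    | zero => rw [pow_zero, pow_zero, act_id]; rfl
    | succ n ih => rw [pow_succ', pow_succ', act_mul, ← ih]; rfl
  have hrank : Module.finrank K W ≤ 7 := by
    have hsurj : LinearMap.range trL = ⊤ :=
      LinearMap.range_eq_top.2 fun r => ⟨r • E0 K, by show tr _ = r; simp [tr, E0]⟩
    have h := LinearMap.finrank_range_add_finrank_ker trL
    rw [hsurj, finrank_top, Module.finrank_self, Module.finrank_fin_fun] at h
    show Module.finrank K (LinearMap.ker trL) ≤ 7
    omega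
  have hone : U ^ p ^ j = 1 := LinearMap.ext fun x => Subtype.ext (by rw [hU, hu, act_id]; rfl)
  have hfix := pow_eq_one_of_finrank_le hone (hrank.trans hk)
  refine eq_of_act_eq (g := u ^ p ^ k) (h := 1) fun x => ?_
  rw [act_id]
  have hx : x + (-(tr x / 2)) • unit K ∈ W := by
    show tr _ = 0
    rw [tr_add, tr_smul, show tr (unit K) = 2 by simp [tr, unit]; norm_num]
    field_simp
    ring
  have h1 := congrArg Subtype.val (LinearMap.congr_fun hfix ⟨_, hx⟩)
  rw [hU] at h1
  simp only [act_add, act_smul_unit, Module.End.one_apply] at h1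
  exact add_right_cancel h1

theorem unipotent_bound {u : Cfsg.Lie.G2 K} {j : ℕ} (hu : u ^ p ^ j = 1) :
    u ^ p ^ (if p = 2 then 3 else if p = 3 ∨ p = 5 then 2 else 1) = 1 := by
  split_ifs with h2 h35
  · exact pow_eq_one_of_le hu (by subst h2; norm_num)
  · exact pow_eq_one_of_le hu (by rcases h35 with rfl | rfl <;> norm_num)
  · have hp := (Fact.out : p.Prime)
    have h20 : (2 : K) ≠ 0 := by
      intro e
      exact h2 ((Nat.prime_dvd_prime_iff_eq hp Nat.prime_two).1
        ((CharP.cast_eq_zero_iff K p 2).1 (by exact_mod_cast e)))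
    refine pow_eq_one_of_seven hu ?_ h20
    rw [pow_one]
    push Not at h35
    have := hp.two_le
    by_contra hlt
    interval_cases p <;> first | omega | exact absurd hp (by norm_num)

end Unipotent

section Main

variable {F : Type*} [Field F] [Fintype F] {p : ℕ} [Fact p.Prime] [CharP F p]

/-- The element orders. -/
theorem order_cases (g : Cfsg.Lie.G2 F) :
    (orderOf g ∣ p ^ (if p = 2 then 3 else if p = 3 ∨ p = 5 then 2 else 1)) ∨
    (orderOf g ∣ p * (Fintype.card F - 1) ∨ orderOf g ∣ p * (Fintype.card F + 1)) ∨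
    (p = 2 ∧ orderOf g ∣ 12) ∨
    (orderOf g ∣ Fintype.card F ^ 2 - 1 ∨ orderOf g ∣ Fintype.card F ^ 2 + Fintype.card F + 1 ∨
      orderOf g ∣ Fintype.card F ^ 2 - Fintype.card F + 1) := by
  classical
  have hp := (Fact.out : p.Prime)
  let K := AlgebraicClosure F
  obtain ⟨φ, hφ⟩ : ∃ φ : F →+* K, φ = algebraMap F K := ⟨_, rfl⟩
  haveI : CharP K p := charP_of_injective_ringHom φ.injective p
  obtain ⟨n, hn, hq⟩ := FiniteField.card F p
  have hg0 : orderOf g ≠ 0 := (orderOf_pos g).ne'
  obtain ⟨j, m, hm, hn'⟩ := Nat.exists_eq_pow_mul_and_not_dvd hg0 p hp.ne_one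
  have hcop : Nat.Coprime (p ^ j) m := (Nat.Coprime.pow_left j ((Nat.Prime.coprime_iff_not_dvd hp).2 hm))
  have hm0 : m ≠ 0 := by rintro rfl; exact hm (dvd_zero p)
  obtain ⟨g', hg'⟩ : ∃ g', g' = mapG φ g := ⟨_, rfl⟩
  have hord : orderOf g' = p ^ j * m := by
    rw [hg', orderOf_injective (mapG φ) (mapG_injective φ), hn']
  have hsm : (g' ^ p ^ j) ^ m = 1 := by rw [← pow_mul, ← hord, pow_orderOf_eq_one]
  have hmK : (m : K) ≠ 0 := fun e => hm ((CharP.cast_eq_zero_iff K p m).1 e)
  obtain ⟨P, a, b, c, habc, hdiag⟩ := exists_conj_diag hmK hsm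
  obtain ⟨s, hs⟩ : ∃ s, s = P * g' ^ p ^ j * P⁻¹ := ⟨_, rfl⟩
  obtain ⟨u, hu⟩ : ∃ u, u = P * g' ^ m * P⁻¹ := ⟨_, rfl⟩
  rw [← hs] at hdiag
  have hc : Commute s u := by
    rw [hs, hu]
    show _ * _ = _ * _
    have e : g' ^ p ^ j * g' ^ m = g' ^ m * g' ^ p ^ j := by rw [← pow_add, ← pow_add, add_comm]
    calc P * g' ^ p ^ j * P⁻¹ * (P * g' ^ m * P⁻¹) = P * (g' ^ p ^ j * g' ^ m) * P⁻¹ := by group
      _ = _ := by rw [e]; group
  have hup : u ^ p ^ j = 1 := by
    rw [hu, conj_pow, ← pow_mul, mul_comm m, ← hord, pow_orderOf_eq_one, mul_one, mul_inv_cancel]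
  have key : ∀ N k : ℕ, s ^ N = 1 → u ^ k = 1 → orderOf g ∣ N * k := by
    intro N k h1 h2
    have e1 : g' ^ (p ^ j * N) = 1 := by
      rw [hs, conj_pow, ← pow_mul] at h1
      have h := congrArg (fun z => P⁻¹ * z * P) h1
      simpa [mul_assoc] using h
    have e2 : g' ^ (m * k) = 1 := by
      rw [hu, conj_pow, ← pow_mul] at h2
      have h := congrArg (fun z => P⁻¹ * z * P) h2
      simpa [mul_assoc] using h
    rw [← orderOf_dvd_iff_pow_eq_one, hord] at e1 e2
    have d1 : m ∣ N := (Nat.mul_dvd_mul_iff_left (pow_pos hp.pos j)).1 e1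
    have d2 : p ^ j ∣ k := by
      rw [mul_comm (p ^ j) m] at e2
      exact (Nat.mul_dvd_mul_iff_left (Nat.pos_of_ne_zero hm0)).1 e2
    rw [hn', mul_comm (p ^ j)]
    exact mul_dvd_mul d1 d2
  -- the eigenvalues are stable
  have hinj : Function.Injective fun x : K => x ^ Fintype.card F := by
    rw [hq]
    haveI : ExpChar K p := ExpChar.prime hp
    exact iterateFrobenius_inj K p n
  have hstab : Stab (Fintype.card F) a b c := by
    haveI : ExpChar K p := ExpChar.prime hp
    have hX : (toM (g' ^ p ^ j)).charpoly = ((evs8 a b c).map fun x => Polynomial.X - Polynomial.C x).prod := by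
      have hM : toM s = Matrix.diagonal (dv a b c) := by
        refine Matrix.ext_of_mulVec_single fun i => ?_
        show act s _ = _
        rw [hdiag, Matrix.diagonal_mulVec_single]
        funext k
        simp only [Pi.single_apply]
        split_ifs with h
        · rw [h]
        · rw [mul_zero]
      have h := Matrix.charpoly_units_conj (P : GL (Fin 8) K) (toM (g' ^ p ^ j))
      rw [← Matrix.coe_units_inv, show ((P : GL (Fin 8) K) : Matrix (Fin 8) (Fin 8) K) * toM (g' ^ p ^ j) *
          (((P : GL (Fin 8) K)⁻¹ : GL (Fin 8) K) : Matrix (Fin 8) (Fin 8) K) = toM s by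
        rw [hs]; rfl, hM, Matrix.charpoly_diagonal] at h
      rw [← h, evs8, Multiset.map_map]
      rfl
    let σ : K →+* K := iterateFrobenius K p n
    have hσ : ∀ x : K, σ x = x ^ Fintype.card F := fun x => by rw [hq]; rfl
    have hfix : (toM (g' ^ p ^ j)).charpoly.map σ = (toM (g' ^ p ^ j)).charpoly := by
      rw [hg', ← map_pow, toM_mapG, Matrix.charpoly_map, Polynomial.map_map]
      congr 1
      ext x
      simp only [RingHom.comp_apply, hσ]
      rw [← map_pow, FiniteField.pow_card]
    rw [hX, Polynomial.map_multiset_prod, Multiset.map_map] at hfix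
    have h := congrArg Polynomial.roots hfix
    rw [Polynomial.roots_multiset_prod_X_sub_C] at h
    have e : (evs8 a b c).map (Polynomial.map σ ∘ fun x => Polynomial.X - Polynomial.C x) =
        ((evs8 a b c).map σ).map fun x => Polynomial.X - Polynomial.C x := by
      rw [Multiset.map_map]
      refine Multiset.map_congr rfl fun x _ => ?_
      simp
    rw [e, Polynomial.roots_multiset_prod_X_sub_C] at h
    rw [Stab, ← Multiset.map_congr rfl fun x _ => hσ x]
    exact h
  by_cases hs1 : s = 1
  · left
    have := key 1 _ (by rw [hs1, one_pow]) (unipotent_bound hup)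
    rwa [one_mul] at this
  by_cases hsp : a = 1 ∨ b = 1 ∨ c = 1 ∨ a = b ∨ b = c ∨ c = a
  · right
    rcases unipotent_pow_prime habc hdiag hs1 hc hup with h | ⟨h2, h3, h4⟩
    · left
      rcases ord3_of_special Fintype.card_pos hinj habc hstab hsp with ho | ho
      · left
        rw [mul_comm]
        exact key _ _ (pow_eq_one_iff_ord3 habc hdiag ho) h
      · right
        rw [mul_comm]
        exact key _ _ (pow_eq_one_iff_ord3 habc hdiag ho) h
    · right; left
      exact ⟨h2, key 3 4 h3 h4⟩
  · push Not at hsp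
    obtain ⟨h1, h2, h3, h12, h23, h31⟩ := hsp
    have hu1 := unipotent_eq_one habc hdiag h1 h2 h3 h12 h23 h31 hc hup
    have hk : ∀ N, Ord3 N a b c → orderOf g ∣ N := fun N ho => by
      have := key N 1 (pow_eq_one_iff_ord3 habc hdiag ho) (by rw [hu1, one_pow])
      rwa [mul_one] at this
    right; right; right
    rcases ord3_of_general Fintype.card_pos hinj habc hstab h1 h2 h3 h12 h23 h31 with ho | ho | ho
    · exact Or.inl (hk _ ho)
    · exact Or.inr (Or.inl (hk _ ho))
    · exact Or.inr (Or.inr (hk _ ho))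

end Main

end Cfsg.Agent.G2Orders
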